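import Mathlib

/-!
# Integer vectors with the Gram matrix of a block with dihedral defect group
-/

set_option autoImplicit false

namespace Cfsg.Agent.Lib.DihedralDefect

universe u

variable {I : Type u}

theorem mem_units_of_sq_le {a : ℤ} (h : a * a ≤ 3) : a = -1 ∨ a = 0 ∨ a = 1 := by
  have h1 : a ≤ 1 := by nlinarith
  have h2 : -1 ≤ a := by nlinarith
  omega

/-- The values at the first two rotations of the exceptional configuration of order sixteen. -/
def BadSum (T : Finset I) (A : I → ℕ → ℤ) (deg : I → ℕ) : Prop :=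
  ∃ p ∈ T, Odd (A p 4) ∧ ∃ s : ℤ, (s = 16 ∨ s = -16) ∧ ∀ r : ℂ, r ^ 2 = 2 →
    (3 * deg p : ℂ) * ∑ χ ∈ T, (-(A χ 4 : ℂ) + r * ((A χ 1 : ℂ) - A χ 3)) ^ 2 *
      ((A χ 4 : ℂ) - 2 * A χ 2) / (deg χ : ℂ) = s

/-- Two pairs meeting in one point. -/
theorem pair_split [DecidableEq I] {P : Finset I} (hP : P.card = 2) {x : I} (hx : x ∈ P) :
    ∃ y, y ≠ x ∧ P = {x, y} := by
  obtain ⟨a, b, hab, rfl⟩ := Finset.card_eq_two.1 hP
  rcases Finset.mem_insert.1 hx with rfl | hx
  · exact ⟨b, hab.symm, rfl⟩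
  · rw [Finset.mem_singleton] at hx
    subst hx
    exact ⟨a, hab, Finset.pair_comm _ _⟩

/-- The computation in the exceptional configuration. -/
theorem badSum_of [DecidableEq I] {T H : Finset I} {A : I → ℕ → ℤ} {deg : I → ℕ} {ε : I}
    (hdeg : ∀ χ ∈ T, 0 < deg χ)
    (hrel : ∀ j ∈ Finset.Icc 1 4, ∑ χ ∈ T, A χ j * (deg χ : ℤ) = 0)
    (hTeq : T = insert ε H) (hεH : ε ∉ H) (hεq : A ε 4 = 0) (hεd : A ε 1 = A ε 2 ∧ A ε 1 = A ε 3)
    (hsgn : ∀ χ ∈ H, A χ 4 = 1 ∨ A χ 4 = -1) (a p₁ p₂ p₃ : I) (k : ℤ) (hk : k = 1 ∨ k = -1)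
    (hHeq : H = {a, p₁, p₂, p₃}) (n1 : a ≠ p₁) (n2 : a ≠ p₂) (n3 : a ≠ p₃) (n4 : p₁ ≠ p₂)
    (n5 : p₁ ≠ p₃) (n6 : p₂ ≠ p₃)
    (va : ∀ j ∈ Finset.Icc 1 (4 - 1), A a j = if k = 1 then A a 4 else 0)
    (v1 : A p₁ 1 = (if k = 1 then A p₁ 4 else 0) ∧ A p₁ 2 = (if k = 1 then 0 else A p₁ 4) ∧
      A p₁ 3 = (if k = 1 then 0 else A p₁ 4))
    (v2 : A p₂ 1 = (if k = 1 then 0 else A p₂ 4) ∧ A p₂ 2 = (if k = 1 then A p₂ 4 else 0) ∧
      A p₂ 3 = (if k = 1 then 0 else A p₂ 4))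
    (v3 : A p₃ 1 = (if k = 1 then 0 else A p₃ 4) ∧ A p₃ 2 = (if k = 1 then 0 else A p₃ 4) ∧
      A p₃ 3 = (if k = 1 then A p₃ 4 else 0)) :
    BadSum T A deg := by
  classical
  have m1 : 1 ∈ Finset.Icc 1 (4 - 1) := by decide
  have m2 : 2 ∈ Finset.Icc 1 (4 - 1) := by decide
  have m3 : 3 ∈ Finset.Icc 1 (4 - 1) := by decide
  have hHT : ∀ χ ∈ H, χ ∈ T := fun χ h => hTeq ▸ Finset.mem_insert_of_mem h
  have hmem : a ∈ H ∧ p₁ ∈ H ∧ p₂ ∈ H ∧ p₃ ∈ H := by simp [hHeq]
  have hsum : ∀ {β : Type} [AddCommMonoid β] (f : I → β),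
      ∑ χ ∈ T, f χ = f ε + (f a + (f p₁ + (f p₂ + f p₃))) := by
    intro β _ f
    rw [hTeq, Finset.sum_insert hεH, hHeq, Finset.sum_insert (by simp [n1, n2, n3]),
      Finset.sum_insert (by simp [n4, n5]), Finset.sum_pair n6]
  have r1 := hrel 1 (by decide)
  have r2 := hrel 2 (by decide)
  have r3 := hrel 3 (by decide)
  have r4 := hrel 4 (by decide)
  rw [hsum] at r1 r2 r3 r4
  rw [va 1 m1, v1.1, v2.1, v3.1] at r1
  rw [va 2 m2, v1.2.1, v2.2.1, v3.2.1, ← hεd.1] at r2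
  rw [va 3 m3, v1.2.2, v2.2.2, v3.2.2, ← hεd.2] at r3
  rw [hεq] at r4
  obtain ⟨D, hD1, hD2, hD3, hDa⟩ : ∃ D : ℤ, A p₁ 4 * deg p₁ = D ∧ A p₂ 4 * deg p₂ = D ∧
      A p₃ 4 * deg p₃ = D ∧ A a 4 * deg a = -3 * D := by
    refine ⟨_, rfl, ?_⟩
    rcases hk with rfl | rfl
    · norm_num at r1 r2 r3 r4 ⊢
      refine ⟨?_, ?_, ?_⟩ <;> linarith
    · norm_num at r1 r2 r3 r4 ⊢
      refine ⟨?_, ?_, ?_⟩ <;> linarith
  refine ⟨p₁, (hHT _ hmem.2.1), ?_, 16 * k * A p₁ 4, ?_, fun r hr => ?_⟩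
  · rcases hsgn _ hmem.2.1 with h | h <;> simp [h]
  · rcases hsgn _ hmem.2.1 with h | h <;> rcases hk with rfl | rfl <;> simp [h]
  have hd0 : ∀ χ ∈ H, (deg χ : ℂ) ≠ 0 := fun χ hχ =>
    Nat.cast_ne_zero.2 (hdeg χ (hHT χ hχ)).ne'
  have hD0 : (D : ℂ) ≠ 0 := by
    rw [← hD1]; push_cast
    refine mul_ne_zero ?_ (hd0 _ hmem.2.1)
    rcases hsgn _ hmem.2.1 with h | h <;> simp [h]
  -- a value over a degree is a multiple of the common inverse
  have hinv : ∀ χ ∈ H, ∀ c : ℤ, A χ 4 * deg χ = c * D →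
      (A χ 4 : ℂ) / (deg χ : ℂ) = 1 / ((c : ℂ) * D) := by
    intro χ hχ c hc
    have hc' : ((A χ 4 : ℤ) : ℂ) * (deg χ : ℂ) = (c : ℂ) * D := by exact_mod_cast hc
    rw [← hc']
    rcases hsgn χ hχ with h | h <;> rw [h] <;> push_cast <;> field_simp
  have hsq : ∀ χ ∈ H, (A χ 4 : ℂ) ^ 2 = 1 := fun χ hχ => by
    rcases hsgn χ hχ with h | h <;> simp [h]
  have ia := hinv a hmem.1 (-3) (by rw [hDa])
  have i1 := hinv p₁ hmem.2.1 1 (by rw [hD1, one_mul])
  have i2 := hinv p₂ hmem.2.2.1 1 (by rw [hD2, one_mul])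
  have i3 := hinv p₃ hmem.2.2.2 1 (by rw [hD3, one_mul])
  have hp : (deg p₁ : ℂ) = (A p₁ 4 : ℂ) * D := by
    rw [← hD1]; push_cast
    rw [← mul_assoc, ← sq, hsq _ hmem.2.1, one_mul]
  have sa := hsq a hmem.1
  have s1 := hsq p₁ hmem.2.1
  have s2 := hsq p₂ hmem.2.2.1
  have s3 := hsq p₃ hmem.2.2.2
  rw [hsum, va 1 m1, va 2 m2, va 3 m3, v1.1, v1.2.1, v1.2.2, v2.1, v2.2.1, v2.2.2, v3.1,
    v3.2.1, v3.2.2, ← hεd.2, hεq]
  rcases hk with rfl | rfl
  · simp only [reduceIte, Int.cast_zero, sub_self, mul_zero, neg_zero, zero_add, ne_eq,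
      OfNat.ofNat_ne_zero, not_false_eq_true, zero_pow, zero_mul, zero_div, sub_zero, add_zero,
      zero_sub]
    rw [show (-(A a 4 : ℂ)) ^ 2 * ((A a 4 : ℂ) - 2 * A a 4) / deg a =
        -((A a 4 : ℂ) ^ 2) * ((A a 4 : ℂ) / deg a) by ring, ia,
      show (-(A p₁ 4 : ℂ) + r * A p₁ 4) ^ 2 * (A p₁ 4 : ℂ) / deg p₁ =
        (-1 + r) ^ 2 * (A p₁ 4 : ℂ) ^ 2 * ((A p₁ 4 : ℂ) / deg p₁) by ring, i1,
      show (-(A p₂ 4 : ℂ)) ^ 2 * ((A p₂ 4 : ℂ) - 2 * A p₂ 4) / deg p₂ =
        -((A p₂ 4 : ℂ) ^ 2) * ((A p₂ 4 : ℂ) / deg p₂) by ring, i2,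
      show (-(A p₃ 4 : ℂ) + r * -(A p₃ 4 : ℂ)) ^ 2 * (A p₃ 4 : ℂ) / deg p₃ =
        (-1 - r) ^ 2 * (A p₃ 4 : ℂ) ^ 2 * ((A p₃ 4 : ℂ) / deg p₃) by ring, i3, sa, s1, s2, s3,
      hp]
    push_cast
    field_simp
    linear_combination 6 * (A p₁ 4 : ℂ) * hr
  · simp only [show ¬ ((-1 : ℤ) = 1) by decide, reduceIte, Int.cast_zero, sub_self, mul_zero,
      neg_zero, zero_add, ne_eq, OfNat.ofNat_ne_zero, not_false_eq_true, zero_pow, zero_mul,
      zero_div, sub_zero, add_zero, zero_sub]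
    rw [show (-(A a 4 : ℂ)) ^ 2 * (A a 4 : ℂ) / deg a =
        (A a 4 : ℂ) ^ 2 * ((A a 4 : ℂ) / deg a) by ring, ia,
      show (-(A p₁ 4 : ℂ) + r * -(A p₁ 4 : ℂ)) ^ 2 * ((A p₁ 4 : ℂ) - 2 * A p₁ 4) / deg p₁ =
        -(-1 - r) ^ 2 * (A p₁ 4 : ℂ) ^ 2 * ((A p₁ 4 : ℂ) / deg p₁) by ring, i1,
      show (-(A p₂ 4 : ℂ)) ^ 2 * (A p₂ 4 : ℂ) / deg p₂ =
        (A p₂ 4 : ℂ) ^ 2 * ((A p₂ 4 : ℂ) / deg p₂) by ring, i2,
      show (-(A p₃ 4 : ℂ) + r * (A p₃ 4 : ℂ)) ^ 2 * ((A p₃ 4 : ℂ) - 2 * A p₃ 4) / deg p₃ =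
        -(-1 + r) ^ 2 * (A p₃ 4 : ℂ) ^ 2 * ((A p₃ 4 : ℂ) / deg p₃) by ring, i3, sa, s1, s2, s3,
      hp]
    push_cast
    field_simp
    linear_combination -6 * (A p₁ 4 : ℂ) * hr

/-- Either the pairs coincide, or there are three of them meeting pairwise in one point. -/
theorem shape [DecidableEq I] (T : Finset I) (A : I → ℕ → ℤ) (deg : I → ℕ) (q : ℕ) (hq : 2 ≤ q)
    (hqe : Even q) (hdeg : ∀ χ ∈ T, 0 < deg χ)
    (hgram : ∀ j ∈ Finset.Icc 1 q, ∀ k ∈ Finset.Icc 1 q,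
      ∑ χ ∈ T, A χ j * A χ k = 2 + if j = k then (if j = q then 2 else 1) else 0)
    (hodd : ∃ χ ∈ T, Odd (A χ q)) (hsupp : ∀ χ ∈ T, ∃ j ∈ Finset.Icc 1 q, A χ j ≠ 0)
    (hrel : ∀ j ∈ Finset.Icc 1 q, ∑ χ ∈ T, A χ j * (deg χ : ℤ) = 0) :
    (T.card = q + 3 ∧ (T.filter fun χ => Odd (A χ q)).card = 4 ∧
      ∀ χ ∈ T, ¬ Odd (A χ q) → ∃ j ∈ Finset.Icc 1 (q - 1), (A χ j = 1 ∨ A χ j = -1) ∧
        ∀ i ∈ Finset.Icc 1 q, i ≠ j → A χ i = 0) ∨
    (q = 4 ∧ BadSum T A deg) := by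
  classical
  have hqI : q ∈ Finset.Icc 1 q := Finset.mem_Icc.2 ⟨by omega, le_rfl⟩
  have hJ : ∀ j ∈ Finset.Icc 1 (q - 1), j ∈ Finset.Icc 1 q ∧ j ≠ q := fun j hj => by
    simp only [Finset.mem_Icc] at hj ⊢; omega
  -- the last vector
  have hq4 : ∑ χ ∈ T, A χ q * A χ q = 4 := by rw [hgram q hqI q hqI, if_pos rfl, if_pos rfl]; norm_num
  have hvalq : ∀ χ ∈ T, A χ q = -1 ∨ A χ q = 0 ∨ A χ q = 1 := by
    intro χ hχ
    refine mem_units_of_sq_le ?_
    by_contra h3
    have hle : A χ q * A χ q ≤ 4 :=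
      hq4 ▸ Finset.single_le_sum (f := fun χ => A χ q * A χ q) (fun i _ => mul_self_nonneg _) hχ
    have he : A χ q * A χ q = 4 := by omega
    rw [← Finset.add_sum_erase _ _ hχ] at hq4
    have h0 : ∑ x ∈ T.erase χ, A x q * A x q = 0 := by omega
    obtain ⟨χ', hχ', hodd'⟩ := hodd
    rcases eq_or_ne χ' χ with rfl | hne
    · have := (hodd'.mul hodd')
      rw [he] at this
      exact absurd this (by decide)
    · have := (Finset.sum_eq_zero_iff_of_nonneg fun i _ => mul_self_nonneg _).1 h0 χ'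
        (Finset.mem_erase.2 ⟨hne, hχ'⟩)
      rw [mul_self_eq_zero.1 this] at hodd'
      exact absurd hodd' (by decide)
  set H := T.filter fun χ => A χ q ≠ 0 with hH
  have hH4 : H.card = 4 := by
    have : ((H.card : ℕ) : ℤ) = 4 := by
      rw [← hq4, hH, Finset.card_filter]
      push_cast
      refine Finset.sum_congr rfl fun χ hχ => ?_
      rcases hvalq χ hχ with h | h | h <;> simp [h]
    exact_mod_cast this
  have hfilt : (T.filter fun χ => Odd (A χ q)) = H := by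
    refine Finset.filter_congr fun χ hχ => ?_
    rcases hvalq χ hχ with h | h | h <;> simp [h]
  -- the other vectors
  have hval : ∀ j ∈ Finset.Icc 1 (q - 1), ∀ χ ∈ T, A χ j = -1 ∨ A χ j = 0 ∨ A χ j = 1 := by
    intro j hj χ hχ
    refine mem_units_of_sq_le ?_
    have h := hgram j (hJ j hj).1 j (hJ j hj).1
    rw [if_pos rfl, if_neg (hJ j hj).2] at h
    calc A χ j * A χ j ≤ ∑ x ∈ T, A x j * A x j :=
          Finset.single_le_sum (f := fun x => A x j * A x j) (fun i _ => mul_self_nonneg _) hχ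
      _ = 3 := by rw [h]; norm_num
  set P := fun j => H.filter fun χ => A χ j = A χ q with hP
  set O := fun j => T.filter fun χ => A χ q = 0 ∧ A χ j ≠ 0 with hO
  have hcount : ∀ j ∈ Finset.Icc 1 (q - 1), (P j).card = 2 ∧ (O j).card = 1 ∧
      ∀ χ ∈ H, χ ∉ P j → A χ j = 0 := by
    intro j hj
    set N := H.filter fun χ => A χ j = -A χ q with hN
    have h1 : ((P j).card : ℤ) - N.card = 2 := by
      have h := hgram j (hJ j hj).1 q hqI
      rw [if_neg (hJ j hj).2, add_zero] at h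
      rw [← h, hP, hN, hH]
      simp only [Finset.filter_filter, Finset.card_filter]
      push_cast
      rw [← Finset.sum_sub_distrib]
      refine Finset.sum_congr rfl fun χ hχ => ?_
      rcases hvalq χ hχ with h | h | h <;> rcases hval j hj χ hχ with h' | h' | h' <;> simp [h, h']
    have h2 : ((P j).card : ℤ) + N.card + (O j).card = 3 := by
      have h := hgram j (hJ j hj).1 j (hJ j hj).1
      rw [if_pos rfl, if_neg (hJ j hj).2] at h
      rw [show (3 : ℤ) = 2 + 1 by norm_num, ← h, hP, hN, hH, hO]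
      simp only [Finset.filter_filter, Finset.card_filter]
      push_cast
      rw [← Finset.sum_add_distrib, ← Finset.sum_add_distrib]
      refine Finset.sum_congr rfl fun χ hχ => ?_
      rcases hvalq χ hχ with h | h | h <;> rcases hval j hj χ hχ with h' | h' | h' <;> simp [h, h']
    have hN0 : N.card = 0 := by omega
    refine ⟨by omega, by omega, fun χ hχ hχP => ?_⟩
    obtain ⟨hχT, hne⟩ := Finset.mem_filter.1 hχ
    have hnN : A χ j ≠ -A χ q := fun h => absurd (Finset.card_eq_zero.1 hN0)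
      (Finset.nonempty_iff_ne_empty.1 ⟨χ, Finset.mem_filter.2 ⟨hχ, h⟩⟩)
    have hnP : A χ j ≠ A χ q := fun h => hχP (Finset.mem_filter.2 ⟨hχ, h⟩)
    rcases hval j hj χ hχT with h' | h' | h' <;> rcases hvalq χ hχT with h | h | h <;> omega
  have hne1 : 1 ∈ Finset.Icc 1 (q - 1) := Finset.mem_Icc.2 ⟨le_rfl, by omega⟩
  obtain ⟨e₁, he₁⟩ := Finset.card_eq_one.1 (hcount 1 hne1).2.1
  have he' : ∀ j, ∃ e, j ∈ Finset.Icc 1 (q - 1) → O j = {e} := fun j => by
    by_cases hj : j ∈ Finset.Icc 1 (q - 1)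
    · obtain ⟨e, he⟩ := Finset.card_eq_one.1 (hcount j hj).2.1
      exact ⟨e, fun _ => he⟩
    · exact ⟨e₁, fun h => absurd h hj⟩
  choose e he using he'
  have heT : ∀ j ∈ Finset.Icc 1 (q - 1), e j ∈ T ∧ A (e j) q = 0 ∧ A (e j) j ≠ 0 := fun j hj => by
    have : e j ∈ O j := by rw [he j hj]; exact Finset.mem_singleton_self _
    simpa [hO] using this
  have heuniq : ∀ j ∈ Finset.Icc 1 (q - 1), ∀ χ ∈ T, χ ∉ H → χ ≠ e j → A χ j = 0 := by
    intro j hj χ hχ hχH hne
    by_contra h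
    have : χ ∈ O j := Finset.mem_filter.2 ⟨hχ, by_contra fun h' => hχH (Finset.mem_filter.2 ⟨hχ, h'⟩), h⟩
    rw [he j hj, Finset.mem_singleton] at this
    exact hne this
  have hpair : ∀ j ∈ Finset.Icc 1 (q - 1), ∀ k ∈ Finset.Icc 1 (q - 1), j ≠ k →
      (e j ≠ e k ∧ P j = P k) ∨
        (e j = e k ∧ A (e j) j = A (e j) k ∧ (P j ∩ P k).card = 1) := by
    intro j hj k hk hjk
    have h := hgram j (hJ j hj).1 k (hJ k hk).1
    rw [if_neg hjk, add_zero] at h
    have hsum : ∑ χ ∈ T, A χ j * A χ k = ((P j ∩ P k).card : ℤ) +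
        if e j = e k then A (e j) j * A (e j) k else 0 := by
      rw [← Finset.sum_filter_add_sum_filter_not T (fun χ => A χ q ≠ 0)]
      congr 1
      · rw [← Finset.sum_subset (s₁ := P j ∩ P k) (s₂ := H)
          (Finset.inter_subset_left.trans (Finset.filter_subset _ _)) ?_]
        · rw [Finset.sum_congr rfl (g := fun _ => (1 : ℤ))]
          · simp
          · intro χ hχ
            obtain ⟨hj', hk'⟩ := Finset.mem_inter.1 hχ
            obtain ⟨hχH, h1⟩ := Finset.mem_filter.1 hj'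
            have h2 := (Finset.mem_filter.1 hk').2
            rw [h1, h2]
            obtain ⟨hχT, hne⟩ := Finset.mem_filter.1 hχH
            rcases hvalq χ hχT with hv | hv | hv
            · rw [hv]; norm_num
            · exact absurd hv hne
            · rw [hv]; norm_num
        · intro χ hχ hnot
          rw [Finset.mem_inter, not_and_or] at hnot
          rcases hnot with hn | hn
          · rw [(hcount j hj).2.2 χ hχ hn, zero_mul]
          · rw [(hcount k hk).2.2 χ hχ hn, mul_zero]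
      · rw [Finset.sum_eq_single (e j)]
        · split_ifs with hee
          · rfl
          · rw [heuniq k hk (e j) (heT j hj).1
              (by simp [hH, (heT j hj).2.1]) hee, mul_zero]
        · intro χ hχ hne
          obtain ⟨hχT, hq0⟩ := Finset.mem_filter.1 hχ
          rw [heuniq j hj χ hχT (by simp [hH]; simpa using fun _ => hq0) hne, zero_mul]
        · intro hnot
          exact absurd (Finset.mem_filter.2 ⟨(heT j hj).1, by simp [(heT j hj).2.1]⟩) hnot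
    rw [hsum] at h
    have hle : (P j ∩ P k).card ≤ 2 :=
      (Finset.card_le_card Finset.inter_subset_left).trans (hcount j hj).1.le
    by_cases hee : e j = e k
    · rw [if_pos hee] at h
      have h1 := hval j hj (e j) (heT j hj).1
      have h2 := hval k hk (e j) (heT j hj).1
      have hn1 := (heT j hj).2.2
      have hn2 : A (e j) k ≠ 0 := hee ▸ (heT k hk).2.2
      refine Or.inr ⟨hee, ?_⟩
      rcases h1 with h1 | h1 | h1 <;> rcases h2 with h2 | h2 | h2 <;>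
        rw [h1, h2] at h <;> omega
    · rw [if_neg hee, add_zero] at h
      refine Or.inl ⟨hee, ?_⟩
      have hc : (P j ∩ P k).card = 2 := by omega
      rw [← Finset.eq_of_subset_of_card_le Finset.inter_subset_left
        (hc ▸ (hcount j hj).1.le : (P j).card ≤ (P j ∩ P k).card),
        Finset.eq_of_subset_of_card_le Finset.inter_subset_right
        (hc ▸ (hcount k hk).1.le : (P k).card ≤ (P j ∩ P k).card)]
  have hcov : ∀ χ ∈ T, χ ∈ H ∨ ∃ j ∈ Finset.Icc 1 (q - 1), χ = e j := by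
    intro χ hχ
    by_cases hχH : χ ∈ H
    · exact Or.inl hχH
    obtain ⟨j, hj, hne⟩ := hsupp χ hχ
    have hjq : j ≠ q := by
      rintro rfl
      exact hχH (Finset.mem_filter.2 ⟨hχ, hne⟩)
    have hj' : j ∈ Finset.Icc 1 (q - 1) := by simp only [Finset.mem_Icc] at hj ⊢; omega
    exact Or.inr ⟨j, hj', by_contra fun h => hne (heuniq j hj' χ hχ hχH h)⟩
  by_cases hinj : Set.InjOn e (Finset.Icc 1 (q - 1) : Finset ℕ)
  · -- the pairs coincide
    refine Or.inl ⟨?_, hfilt ▸ hH4, fun χ hχ hev => ?_⟩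
    · have hT : T = H ∪ (Finset.Icc 1 (q - 1)).image e := by
        refine Finset.Subset.antisymm (fun χ hχ => ?_) ?_
        · rcases hcov χ hχ with h | ⟨j, hj, rfl⟩
          · exact Finset.mem_union_left _ h
          · exact Finset.mem_union_right _ (Finset.mem_image_of_mem _ hj)
        · refine Finset.union_subset (Finset.filter_subset _ _) fun χ hχ => ?_
          obtain ⟨j, hj, rfl⟩ := Finset.mem_image.1 hχ
          exact (heT j hj).1
      rw [hT, Finset.card_union_of_disjoint, Finset.card_image_of_injOn hinj, hH4, Nat.card_Icc]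
      · omega
      · refine Finset.disjoint_left.2 fun χ hχH hχ => ?_
        obtain ⟨j, hj, rfl⟩ := Finset.mem_image.1 hχ
        exact (Finset.mem_filter.1 hχH).2 (heT j hj).2.1
    · have hχH : χ ∉ H := by rw [← hfilt]; simp [hev]
      obtain ⟨j, hj, rfl⟩ := (hcov χ hχ).resolve_left hχH
      refine ⟨j, hj, ?_, fun i hi hne => ?_⟩
      · rcases hval j hj (e j) (heT j hj).1 with h | h | h
        · exact Or.inr h
        · exact absurd h (heT j hj).2.2
        · exact Or.inl h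
      · rcases eq_or_ne i q with rfl | hiq
        · exact (heT j hj).2.1
        have hi' : i ∈ Finset.Icc 1 (q - 1) := by simp only [Finset.mem_Icc] at hi ⊢; omega
        exact heuniq i hi' _ hχ hχH fun h => hne (hinj hi' hj h.symm)
  · -- three pairs meeting pairwise in one point
    right
    simp only [Set.InjOn, Finset.mem_coe] at hinj
    push Not at hinj
    obtain ⟨j₀, hj₀, k₀, hk₀, heq₀, hne₀⟩ := hinj
    have hall : ∀ j ∈ Finset.Icc 1 (q - 1), e j = e j₀ := by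
      intro j hj
      by_contra h
      rcases eq_or_ne j j₀ with rfl | hj0; · exact h rfl
      rcases hpair j hj j₀ hj₀ hj0 with ⟨-, hP1⟩ | ⟨h', -⟩
      · rcases eq_or_ne j k₀ with rfl | hjk; · exact h heq₀.symm
        rcases hpair j hj k₀ hk₀ hjk with ⟨-, hP2⟩ | ⟨h', -⟩
        · rcases hpair j₀ hj₀ k₀ hk₀ hne₀ with ⟨h', -⟩ | ⟨-, -, h'⟩
          · exact h' heq₀
          · rw [← hP1, ← hP2, Finset.inter_self, (hcount j hj).1] at h'
            omega
        · exact h (h'.trans heq₀.symm)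
      · exact h h'
    have hmeet : ∀ j ∈ Finset.Icc 1 (q - 1), ∀ k ∈ Finset.Icc 1 (q - 1), j ≠ k →
        (P j ∩ P k).card = 1 ∧ A (e j₀) j = A (e j₀) k := by
      intro j hj k hk hjk
      rcases hpair j hj k hk hjk with ⟨h, -⟩ | ⟨-, h1, h2⟩
      · exact absurd ((hall j hj).trans (hall k hk).symm) h
      · exact ⟨h2, hall j hj ▸ h1⟩
    have hPH : ∀ j, P j ⊆ H := fun j => Finset.filter_subset _ _
    have hPinj : Set.InjOn P (Finset.Icc 1 (q - 1) : Finset ℕ) := fun j hj k hk h => by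
      by_contra hne
      have := (hmeet j hj k hk hne).1
      rw [h, Finset.inter_self, (hcount k hk).1] at this
      omega
    have hcompl : ∀ j ∈ Finset.Icc 1 (q - 1), ∀ k ∈ Finset.Icc 1 (q - 1), H \ P j ≠ P k := by
      intro j hj k hk h
      rcases eq_or_ne j k with rfl | hne
      · obtain ⟨x, hx⟩ := Finset.card_pos.1 (show 0 < (P j).card by rw [(hcount j hj).1]; norm_num)
        exact (Finset.mem_sdiff.1 (h.symm ▸ hx : x ∈ H \ P j)).2 hx
      · have := (hmeet j hj k hk hne).1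
        rw [← h, Finset.inter_sdiff_self, Finset.card_empty] at this
        omega
    have hq7 : 2 * (q - 1) ≤ 6 := by
      have hdisj : Disjoint ((Finset.Icc 1 (q - 1)).image P)
          ((Finset.Icc 1 (q - 1)).image fun j => H \ P j) := by
        refine Finset.disjoint_left.2 fun X hX hX' => ?_
        obtain ⟨k, hk, rfl⟩ := Finset.mem_image.1 hX
        obtain ⟨j, hj, h⟩ := Finset.mem_image.1 hX'
        exact hcompl j hj k hk h
      have h1 := Finset.card_le_card (s := (Finset.Icc 1 (q - 1)).image P ∪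
        (Finset.Icc 1 (q - 1)).image fun j => H \ P j) (t := H.powersetCard 2) ?_
      · rw [Finset.card_union_of_disjoint hdisj, Finset.card_image_of_injOn hPinj,
          Finset.card_image_of_injOn, Nat.card_Icc, Finset.card_powersetCard, hH4,
          show Nat.choose 4 2 = 6 by decide] at h1
        · omega
        · intro j hj k hk h
          refine hPinj hj hk ?_
          rw [← Finset.sdiff_sdiff_eq_self (hPH j), show H \ P j = H \ P k from h,
            Finset.sdiff_sdiff_eq_self (hPH k)]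
      · refine Finset.union_subset ?_ ?_ <;> intro X hX <;>
          obtain ⟨j, hj, rfl⟩ := Finset.mem_image.1 hX <;> rw [Finset.mem_powersetCard]
        · exact ⟨hPH j, (hcount j hj).1⟩
        · exact ⟨Finset.sdiff_subset, by
            rw [Finset.card_sdiff_of_subset (hPH j), hH4, (hcount j hj).1]⟩
    have hq4' : q = 4 := by
      have h2 : 2 ≤ q - 1 := by
        have h1 := Finset.mem_Icc.1 hj₀
        have h2 := Finset.mem_Icc.1 hk₀
        omega
      obtain ⟨m, rfl⟩ := hqe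
      omega
    subst hq4'
    refine ⟨rfl, ?_⟩
    have m1 : 1 ∈ Finset.Icc 1 (4 - 1) := by decide
    have m2 : 2 ∈ Finset.Icc 1 (4 - 1) := by decide
    have m3 : 3 ∈ Finset.Icc 1 (4 - 1) := by decide
    obtain ⟨x, hx⟩ := Finset.card_eq_one.1 (hmeet 1 m1 2 m2 (by decide)).1
    have hx12 : x ∈ P 1 ∧ x ∈ P 2 := Finset.mem_inter.1 (hx ▸ Finset.mem_singleton_self x)
    obtain ⟨y, hyx, hP1⟩ := pair_split (hcount 1 m1).1 hx12.1
    obtain ⟨z, hzx, hP2⟩ := pair_split (hcount 2 m2).1 hx12.2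
    have hyz : y ≠ z := fun h => absurd (hPinj m1 m2 (by rw [hP1, hP2, h])) (by decide)
    set ε := e j₀ with hε
    have hεT : ε ∈ T ∧ A ε 4 = 0 := ⟨(heT j₀ hj₀).1, (heT j₀ hj₀).2.1⟩
    have hεH : ε ∉ H := by simp [hH, hεT.2]
    have hεd : A ε 1 = A ε 2 ∧ A ε 1 = A ε 3 :=
      ⟨(hmeet 1 m1 2 m2 (by decide)).2, (hmeet 1 m1 3 m3 (by decide)).2⟩
    have hεsgn : A ε 1 = 1 ∨ A ε 1 = -1 := by
      rcases hval 1 m1 ε hεT.1 with h | h | h
      · exact Or.inr h
      · exact absurd h ((hall 1 m1) ▸ (heT 1 m1).2.2)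
      · exact Or.inl h
    have hTeq : T = insert ε H := by
      refine Finset.Subset.antisymm (fun χ hχ => ?_)
        (Finset.insert_subset hεT.1 (Finset.filter_subset _ _))
      rcases hcov χ hχ with h | ⟨j, hj, rfl⟩
      · exact Finset.mem_insert_of_mem h
      · rw [hall j hj]; exact Finset.mem_insert_self _ _
    have hAP : ∀ j ∈ Finset.Icc 1 (4 - 1), ∀ χ ∈ H, A χ j = if χ ∈ P j then A χ 4 else 0 := by
      intro j hj χ hχ
      split_ifs with h
      · exact (Finset.mem_filter.1 h).2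
      · exact (hcount j hj).2.2 χ hχ h
    have hin : ∀ {j χ}, χ ∈ P j → χ ∈ H := fun h => hPH _ h
    have hsgn : ∀ χ ∈ H, A χ 4 = 1 ∨ A χ 4 = -1 := fun χ hχ => by
      obtain ⟨hχT, hne⟩ := Finset.mem_filter.1 hχ
      rcases hvalq χ hχT with h | h | h
      · exact Or.inr h
      · exact absurd h hne
      · exact Or.inl h
    have finish := fun (a p₁ p₂ p₃ : I) (k : ℤ) (hk : k = 1 ∨ k = -1) =>
      badSum_of hdeg hrel hTeq hεH hεT.2 hεd hsgn a p₁ p₂ p₃ k hk
    by_cases hx3 : x ∈ P 3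
    · obtain ⟨w, hwx, hP3⟩ := pair_split (hcount 3 m3).1 hx3
      have hyw : y ≠ w := fun h => absurd (hPinj m1 m3 (by rw [hP1, hP3, h])) (by decide)
      have hzw : z ≠ w := fun h => absurd (hPinj m2 m3 (by rw [hP2, hP3, h])) (by decide)
      have hy : y ∈ H := hin (j := 1) (by rw [hP1]; simp)
      have hz : z ∈ H := hin (j := 2) (by rw [hP2]; simp)
      have hw : w ∈ H := hin (j := 3) (by rw [hP3]; simp)
      have hx' : x ∈ H := hin hx12.1
      refine finish x y z w 1 (Or.inl rfl) ?_ hyx.symm hzx.symm hwx.symm hyz hyw hzw ?_ ?_ ?_ ?_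
      · refine (Finset.eq_of_subset_of_card_le ?_ ?_).symm
        · simp [Finset.insert_subset_iff, hx', hy, hz, hw]
        · rw [hH4]; simp [hyx.symm, hzx.symm, hwx.symm, hyz, hyw, hzw]
      · intro j hj
        rw [hAP j hj x hx', if_pos]
        · simp
        · obtain ⟨hj1, hj3⟩ : 1 ≤ j ∧ j ≤ 3 := Finset.mem_Icc.1 hj
          interval_cases j <;> [exact hx12.1; exact hx12.2; exact hx3]
      all_goals
        refine ⟨?_, ?_, ?_⟩ <;>
          rw [hAP _ (by decide) _ (by assumption)] <;>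
          simp [hP1, hP2, hP3, hyx, hzx, hwx, hyz, hyw, hzw, Ne.symm hyz, Ne.symm hyw, Ne.symm hzw]
    · have hy3 : y ∈ P 3 := by
        obtain ⟨u, hu⟩ := Finset.card_eq_one.1 (hmeet 1 m1 3 m3 (by decide)).1
        have h := Finset.mem_inter.1 (hu ▸ Finset.mem_singleton_self u : u ∈ P 1 ∩ P 3)
        rw [hP1] at h
        rcases Finset.mem_insert.1 h.1 with rfl | h'
        · exact absurd h.2 hx3
        · rw [← Finset.mem_singleton.1 h']; exact h.2
      have hz3 : z ∈ P 3 := by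
        obtain ⟨u, hu⟩ := Finset.card_eq_one.1 (hmeet 2 m2 3 m3 (by decide)).1
        have h := Finset.mem_inter.1 (hu ▸ Finset.mem_singleton_self u : u ∈ P 2 ∩ P 3)
        rw [hP2] at h
        rcases Finset.mem_insert.1 h.1 with rfl | h'
        · exact absurd h.2 hx3
        · rw [← Finset.mem_singleton.1 h']; exact h.2
      have hP3 : P 3 = {y, z} := (Finset.eq_of_subset_of_card_le
        (Finset.insert_subset hy3 (Finset.singleton_subset_iff.2 hz3))
        (by rw [(hcount 3 m3).1, Finset.card_pair hyz])).symm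
      have hx' : x ∈ H := hin hx12.1
      have hy : y ∈ H := hin hy3
      have hz : z ∈ H := hin hz3
      obtain ⟨a, ha, hane⟩ := Finset.exists_mem_notMem_of_card_lt_card
        (s := ({x, y, z} : Finset I)) (t := H) (by
          rw [hH4]; simp [hyx.symm, hzx.symm, hyz])
      simp only [Finset.mem_insert, Finset.mem_singleton, not_or] at hane
      obtain ⟨hax, hay, haz⟩ := hane
      refine finish a z y x (-1) (Or.inr rfl) ?_ haz hay hax hyz.symm hzx hyx ?_ ?_ ?_ ?_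
      · refine (Finset.eq_of_subset_of_card_le ?_ ?_).symm
        · simp [Finset.insert_subset_iff, ha, hx', hy, hz]
        · rw [hH4]; simp [hax, hay, haz, hyz.symm, hzx, hyx]
      · intro j hj
        rw [hAP j hj a ha, if_neg]
        · simp
        · obtain ⟨hj1, hj3⟩ : 1 ≤ j ∧ j ≤ 3 := Finset.mem_Icc.1 hj
          interval_cases j <;> simp [hP1, hP2, hP3, hax, hay, haz]
      all_goals
        refine ⟨?_, ?_, ?_⟩ <;>
          rw [hAP _ (by decide) _ (by assumption)] <;>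
          simp [hP1, hP2, hP3, hyx, hzx, Ne.symm hzx, Ne.symm hyx, hyz, Ne.symm hyz]

end Cfsg.Agent.Lib.DihedralDefect
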