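import Cfsg.Agent.Lib.DihedralDefect.Induce
import Cfsg.Agent.Lib.BrauerMap.Truncation
import Mathlib

/-!
# A congruence excluding the exceptional configuration of order sixteen
-/

set_option autoImplicit false
set_option linter.unusedSectionVars false

namespace Cfsg.Agent.Lib.DihedralDefect

open Finset Cfsg
open Cfsg.Agent.Lib
open Cfsg.Agent.Lib.BrauerPairs
open Cfsg.Agent.Lib.NilBlock (bu bu_fst)
open scoped ComplexConjugate

universe u

attribute [local instance] Classical.propDecidable

variable {M : Ideal AlgInt} [M.IsPrime]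

/-- The inner product of a small class function with a member of a block. -/
theorem memLocalIdeal_classInner {H : Type u} [Group H] [Fintype H] (hM : IsPModular 2 M)
    {a : Set (IrrCharacter H)} {η : IrrCharacter H} (hη : η ∈ a) {g : H → ℂ}
    (hg : IsClassFunction H g) (hgM : ∀ x, MemLocalIdeal M (g x)) :
    MemLocalIdeal M ((2 : ℂ) ^ blockDefect 2 a * classInner g (η : H → ℂ)) := by
  haveI : Fact (Nat.Prime 2) := ⟨Nat.prime_two⟩
  haveI : Fintype (ConjClasses H) := Fintype.ofFinite _
  obtain ⟨hd, hd0⟩ := Blocks.HeightZero.charDegree_eq η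
  have hg' : IsClassFunction H fun x => g x⁻¹ := fun x h => by
    show g (h * x * h⁻¹)⁻¹ = g x⁻¹
    rw [show (h * x * h⁻¹)⁻¹ = h * x⁻¹ * h⁻¹ by group, hg]
  have hS : MemLocalIdeal M (∑ x : H, g x⁻¹ * (η : H → ℂ) x / (η : H → ℂ) 1) := by
    rw [Blocks.HeightZero.sum_mul_div_eq_sum_centralChar hg' (Chars.irr_isClassFunction η)]
    exact Blocks.memLocalIdeal_sum _ _ fun c _ => Blocks.memLocalIdeal_mul_right (hgM _)
      (Blocks.centralChar_mem_localRing η _)
  have hci : classInner g (η : H → ℂ) =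
      (Nat.card H : ℂ)⁻¹ * ∑ x : H, g x⁻¹ * (η : H → ℂ) x := by
    rw [classInner]
    congr 1
    refine Fintype.sum_equiv (Equiv.inv H) _ _ fun x => ?_
    simp only [Equiv.inv_apply, inv_inv, Chars.irr_inv]
  have hk : ((2 ^ blockDefect 2 a * charDegree (η : H → ℂ) : ℕ) : ℂ) / (Nat.card H : ℕ) ∈
      Blocks.localRing M := by
    refine Blocks.natCast_div_mem_localRing hM Nat.card_pos.ne' (Or.inl ?_)
    rw [Nat.factorization_mul (by positivity) hd0, Finsupp.add_apply,
      Nat.prime_two.factorization_pow, Finsupp.single_eq_same]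
    have := BrauerFeit.factorization_add_defect (p := 2) hη
    omega
  convert Blocks.memLocalIdeal_mul_left (Blocks.mem_localRing.1 hk) hS using 1
  have hne := Chars.irr_apply_one_ne_zero η
  rw [hci, ← Finset.sum_div, ← hd]
  have : (charDegree (η : H → ℂ) : ℂ) ≠ 0 := Nat.cast_ne_zero.2 hd0
  push_cast
  field_simp

section Local

variable {K : Type u} [Group K] [Fintype K] {f : Set (IrrCharacter K)} {b : BrauerPairIdx K}
  {s t : K} {q : ℕ} {η₀ : IrrCharacter K}

/-- The rows carry small class functions to small numbers. -/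
theorem NilDih.memLocalIdeal_sum_W (N : NilDih M f b s t q η₀) {h : K → ℂ}
    (hh : IsClassFunction K h) (hhM : ∀ x, MemLocalIdeal M (h x)) {u : K} (hu : u ∈ b.1) :
    MemLocalIdeal M (∑ η : IrrCharacter K, classInner h (η : K → ℂ) * W M b η₀ η u) := by
  haveI : Fact (Nat.Prime 2) := ⟨Nat.prime_two⟩
  have hM := N.modular
  rw [sum_classInner_mul_W hh u, ← NilBlock.pow_blockDefect_bu hM N.max N.nil hu]
  set a := (bu 2 M b u).2 with ha
  have hab : IsPBlock M a := (NilBlock.isBrauerPairOf_bu hM N.max hu).1.2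
  have hCa : Subgroup.centralizer ((bu 2 M b u).1 : Set K) = Subgroup.centralizer ({u} : Set K) :=
    NilBlock.centralizer_bu u
  set P := pRegularPart 2 fun c : Subgroup.centralizer ((bu 2 M b u).1 : Set K) => h (u * (c : K))
    with hP
  have hhu : IsClassFunction (Subgroup.centralizer ((bu 2 M b u).1 : Set K))
      fun c => h (u * (c : K)) := by
    intro c d
    have hdu : (d : K) * u = u * d := Subgroup.mem_centralizer_singleton_iff.1 (hCa.le d.2)
    show h (u * ((d * c * d⁻¹ : Subgroup.centralizer ((bu 2 M b u).1 : Set K)) : K)) = h (u * c)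
    rw [Subgroup.coe_mul, Subgroup.coe_mul, Subgroup.coe_inv,
      show u * ((d : K) * c * (d : K)⁻¹) = (u * d) * c * (d : K)⁻¹ by group, ← hdu,
      show (d : K) * u * c * (d : K)⁻¹ = d * (u * c) * (d : K)⁻¹ by group, hh]
  have hPM : ∀ c, MemLocalIdeal M (P c) := fun c => by
    rw [hP, BrauerFeit.pRegularPart_apply]
    split_ifs
    exacts [Blocks.memLocalIdeal_zero, hhM _]
  have hPcl : IsClassFunction _ P := BrauerFeit.isClassFunction_pRegularPart 2 hhu
  have hkey : ∀ η ∈ a, ∑ ξ ∈ a.toFinset, classInner P (ξ : _ → ℂ) * BrauerFeit.regCoef 2 η ξ =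
      classInner P (η : _ → ℂ) := by
    intro η hη
    have h1 := Chars.classInner_eq_sum_mul_conj hPcl
      (BrauerFeit.isClassFunction_pRegularPart 2 (Chars.irr_isClassFunction η))
    have h2 : classInner P (pRegularPart 2 (η : _ → ℂ)) = classInner P (η : _ → ℂ) := by
      simp only [classInner]
      congr 1
      refine Finset.sum_congr rfl fun c _ => ?_
      rw [hP, BrauerFeit.pRegularPart_apply, BrauerFeit.pRegularPart_apply]
      split_ifs <;> simp
    rw [← h2, h1, ← Finset.sum_subset (Finset.subset_univ a.toFinset) fun ξ _ hξ => by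
      show _ * conj (BrauerFeit.regCoef 2 η ξ) = 0
      rw [BrauerFeit.regCoef_eq_zero_of_not_mem (BrauerFeit.regOrth hM) hab hη (by simpa using hξ),
        map_zero, mul_zero]]
    refine Finset.sum_congr rfl fun ξ _ => ?_
    show _ = _ * conj (BrauerFeit.regCoef 2 η ξ)
    rw [BrauerFeit.conj_regCoef]
  have hsum : ∑ ξ ∈ a.toFinset, classInner P (ξ : _ → ℂ) * conj (Contrib.secCoef 2 u η₀ ξ) =
      ∑ η ∈ a.toFinset, conj (Contrib.secMult hCa η₀ η) * classInner P (η : _ → ℂ) := by
    calc ∑ ξ ∈ a.toFinset, classInner P (ξ : _ → ℂ) * conj (Contrib.secCoef 2 u η₀ ξ)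
        = ∑ ξ ∈ a.toFinset, ∑ η ∈ a.toFinset, conj (Contrib.secMult hCa η₀ η) *
            (classInner P (ξ : _ → ℂ) * BrauerFeit.regCoef 2 η ξ) := by
          refine Finset.sum_congr rfl fun ξ hξ => ?_
          rw [Contrib.secCoef_eq_block hM hCa hab η₀ (Set.mem_toFinset.1 hξ), map_sum,
            Finset.mul_sum]
          exact Finset.sum_congr rfl fun η _ => by rw [map_mul, BrauerFeit.conj_regCoef]; ring
      _ = _ := by
          rw [Finset.sum_comm]
          exact Finset.sum_congr rfl fun η hη => by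
            rw [← Finset.mul_sum, hkey η (Set.mem_toFinset.1 hη)]
  rw [hsum, Finset.mul_sum]
  refine Blocks.memLocalIdeal_sum _ _ fun η hη => ?_
  rw [mul_left_comm]
  push_cast
  refine Blocks.memLocalIdeal_mul_left ?_
    (memLocalIdeal_classInner hM (Set.mem_toFinset.1 hη) hPcl hPM)
  obtain ⟨k, hk⟩ := NilBlock.exists_orderOf_eq hM N.max hu
  obtain ⟨n, hn⟩ := Chars.isCharacter_classInner_nat
    (Chars.isCharacter_restrict (Subgroup.centralizer ((bu 2 M b u).1 : Set K))
      (Chars.irr_isCharacter η₀)) (Chars.irr_isCharacter η)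
  refine Blocks.mem_localRing.1 (Blocks.isIntegral_mem_localRing ?_)
  rw [Contrib.secMult, hn, map_mul, Complex.conj_natCast]
  refine (isIntegral_algebraMap (R := ℤ) (A := ℂ) (x := (n : ℤ))).mul
    (IsIntegral.of_pow (n := 2 ^ k) (by positivity) ?_)
  rw [← map_pow, Contrib.secScalar_pow_eq_one hCa η (hk ▸ pow_orderOf_eq_one u), map_one]
  exact isIntegral_one

end Local

section Global

variable {G : Type u} [Group G] [Fintype G]
  {B : Set (IrrCharacter G)} {z : G} [Fintype (cent z)] {f : Set (IrrCharacter (cent z))}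
  {b' : BrauerPairIdx (cent z)} {s t : cent z} {η₀ : IrrCharacter (cent z)}

/-- The function with value one at the rotations of index one and seven. -/
noncomputable def selOne (l : ℕ) : ℂ := (if l = 1 then 1 else 0) + (if l = 7 then 1 else 0)

theorem selOne_symm : ∀ l ∈ Finset.Ioo 0 (2 * 4), selOne (2 * 4 - l) = selOne l := by
  intro l hl
  rw [Finset.mem_Ioo] at hl
  simp only [selOne]
  rw [add_comm]
  congr 1 <;> refine if_congr ?_ rfl rfl <;> omega

theorem selOne_real : ∀ l ∈ Finset.Ioo 0 (2 * 4), conj (selOne l) = selOne l := fun l _ => by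
  simp only [selOne, map_add, apply_ite conj, map_one, map_zero]

theorem sum_selOne (g : ℕ → ℂ) : ∑ l ∈ Finset.Ioo 0 (2 * 4), selOne l * g l = g 1 + g 7 := by
  simp only [selOne, add_mul, Finset.sum_add_distrib, ite_mul, one_mul, zero_mul,
    Finset.sum_ite_eq']
  rfl

/-- The exceptional configuration contradicts the multiplicativity of the Brauer map. -/
theorem not_bad (hM : IsPModular 2 M) (C : Ctx M B z f b' s t 4) (hη : η₀ ∈ f)
    (h0 : blockHeight 2 f (η₀ : cent z → ℂ) = 0)
    (hbad : ∃ p ∈ B, blockHeight 2 B (p : G → ℂ) = 0 ∧ ∃ σ : ℤ, (σ = 16 ∨ σ = -16) ∧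
      (3 * charDegree (p : G → ℂ) : ℂ) * ∑ χ ∈ B.toFinset, col M b' η₀ χ s ^ 2 *
        col M b' η₀ χ (s ^ 2) / (charDegree (χ : G → ℂ) : ℂ) = σ) : False := by
  haveI : Fact (Nat.Prime 2) := ⟨Nat.prime_two⟩
  have N := nilDih hM C hη h0
  have hz := orderOf_z hM C hη h0
  set φ := phi M b' s 4 η₀ selOne with hφdef
  have hφcl : IsClassFunction (cent z) φ :=
    N.isClassFunction_starθ (N.isClassFunction_rotFun selOne_symm)
  have hφS : ∀ x, φ x ≠ 0 → InS z x := fun x => inS_of_ne hM C hη h0 x
  have hdeg : ∀ {L : Type u} [Group L] [Finite L] (χ : IrrCharacter L),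
      ((charDegree (χ : L → ℂ) : ℂ) = (χ : L → ℂ) 1) ∧ charDegree (χ : L → ℂ) ≠ 0 :=
    fun {L} _ _ χ => by haveI := Fintype.ofFinite L; exact Blocks.HeightZero.charDegree_eq χ
  have hφint : ∀ x, IsIntegral ℤ (φ x) := N.isIntegral_starθ fun w => by
    refine IsIntegral.sum _ fun l _ => ?_
    split_ifs
    · have h01 : ∀ (c : Prop) [Decidable c], IsIntegral ℤ (if c then (1 : ℂ) else 0) := fun c _ => by
        split_ifs
        exacts [isIntegral_one, isIntegral_zero]
      exact (h01 _).add (h01 _)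
    · exact isIntegral_zero
  set Ψ := indFun (cent z) φ with hΨdef
  have hΨcl : IsClassFunction G Ψ := Chars.isClassFunction_indFun _ _
  have hΨval : ∀ g, MemLocalRing M (Ψ g) := by
    intro g
    by_cases h : Ψ g = 0
    · rw [h]; exact Blocks.mem_localRing.1 (zero_mem _)
    obtain ⟨y, hy, hne⟩ := exists_of_indFun_ne h
    have h1 : Ψ g = φ ⟨_, hy⟩ := by
      rw [← indFun_eq hz hφcl hφS (hφS _ hne)]
      exact (Chars.isClassFunction_apply_eq hΨcl (isConj_iff.2 ⟨y, by group⟩))
    rw [h1]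
    exact Blocks.mem_localRing.1 (Blocks.isIntegral_mem_localRing (hφint _))
  have hconjΨ : ∀ g, conj (Ψ g) = Ψ g⁻¹ := by
    intro g
    simp only [hΨdef, hφdef, indFun_phi hM C hη h0 selOne_symm selOne_real, map_sum, map_mul,
      map_inv₀, map_ofNat, Complex.conj_natCast, Chars.irr_inv]
    refine Finset.sum_congr rfl fun χ _ => ?_
    congr 2
    exact Finset.sum_congr rfl fun l hl => by rw [selOne_real l hl, conj_col hM C hη h0]
  -- the central element and its central characters
  set X : MonoidAlgebra (Blocks.localRing M) G :=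
    Blocks.ofFun fun g => ⟨Ψ g⁻¹, Blocks.mem_localRing.2 (hΨval g⁻¹)⟩ with hXdef
  have hX : X ∈ Blocks.RCenter M G := by
    refine Blocks.mem_center_iff.2 fun g h => Subtype.ext ?_
    simp only [hXdef, Blocks.coeff_ofFun]
    rw [show (h * g * h⁻¹)⁻¹ = h * g⁻¹ * h⁻¹ by group, hΨcl]
  have hXX : X * X ∈ Blocks.RCenter M G := mul_mem hX hX
  have hωX : ∀ χ : IrrCharacter G, Blocks.omega (χ : G → ℂ) (Blocks.toC M G X) =
      (Nat.card G : ℂ) / (χ : G → ℂ) 1 * (col M b' η₀ χ s / 8) := by
    intro χ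
    have h1 : classInner (χ : G → ℂ) Ψ = col M b' η₀ χ s / 8 := by
      rw [hΨdef, Chars.classInner_indFun_right _ _ _ (Chars.irr_isClassFunction χ), hφdef,
        classInner_res_phi hM C hη h0 χ selOne_symm selOne_real, sum_selOne]
      simp only [pow_one, show (7 : ℕ) = 2 * 4 - 1 by norm_num, col_symm hM C hη h0 χ
        (show 1 ≤ 2 * 4 by norm_num)]
      push_cast
      ring
    rw [← h1, Blocks.omega_eq_sum, classInner, ← mul_assoc, div_mul_eq_mul_div,
      mul_inv_cancel₀ Chars.natCard_ne_zero, one_div, Finset.mul_sum]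
    refine Finset.sum_congr rfl fun g _ => ?_
    rw [hconjΨ]
    show ((X.coeff g : Blocks.localRing M) : ℂ) * _ = _
    simp only [hXdef, Blocks.coeff_ofFun]
    ring
  -- the truncation
  set P := Subgroup.zpowers z with hPdef
  have hPp : IsPGroup 2 P := IsPGroup.of_card (n := 1) (by rw [Nat.card_zpowers, hz, pow_one])
  set T : MonoidAlgebra (Blocks.localRing M) (cent z) := BrauerMap.trunc P X with hTdef
  set R : MonoidAlgebra (Blocks.localRing M) (cent z) := BrauerMap.trunc P (X * X) with hRdef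
  have hT : T ∈ Blocks.RCenter M (cent z) :=
    BrauerMap.trunc_mem_center (BrauerMap.center_le_fixedRing _ hX)
  have hR : R ∈ Blocks.RCenter M (cent z) :=
    BrauerMap.trunc_mem_center (BrauerMap.center_le_fixedRing _ hXX)
  have hTT : T * T ∈ Blocks.RCenter M (cent z) := mul_mem hT hT
  have hcong : Blocks.toF M _ R = Blocks.toF M _ (T * T) :=
    BrauerMap.toF_trunc_mul hM hPp (BrauerMap.center_le_fixedRing _ hX)
      (BrauerMap.center_le_fixedRing _ hX)
  -- the functional
  set u : cent z := s ^ 2 with hudef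
  let gf : MonoidAlgebra (Blocks.localRing M) (cent z) → cent z → ℂ := fun Z x =>
    ((Z.coeff x⁻¹ : Blocks.localRing M) : ℂ)
  have hgfcl : ∀ Z ∈ Blocks.RCenter M (cent z), IsClassFunction (cent z) (gf Z) := by
    intro Z hZ x h
    show ((Z.coeff (h * x * h⁻¹)⁻¹ : Blocks.localRing M) : ℂ) = _
    rw [show (h * x * h⁻¹)⁻¹ = h * x⁻¹ * h⁻¹ by group, Blocks.mem_center_iff.1 hZ]
  have hgf : ∀ Z, ∀ η : IrrCharacter (cent z), classInner (gf Z) (η : cent z → ℂ) =
      (η : cent z → ℂ) 1 / (Nat.card (cent z) : ℂ) *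
        Blocks.omega (η : cent z → ℂ) (Blocks.toC M _ Z) := by
    intro Z η
    have hne := Chars.irr_apply_one_ne_zero η
    rw [Blocks.omega_eq_sum, classInner, Finset.mul_sum, Finset.mul_sum]
    refine Fintype.sum_equiv (Equiv.inv _) _ _ fun x => ?_
    show (Nat.card (cent z) : ℂ)⁻¹ * ((Z.coeff x⁻¹ : Blocks.localRing M) * conj _) =
      _ * (((Z.coeff x⁻¹ : Blocks.localRing M) : ℂ) * ((η : cent z → ℂ) x⁻¹ / _))
    rw [Chars.irr_inv]
    field_simp
  let Lam : MonoidAlgebra (Blocks.localRing M) (cent z) → ℂ := fun Z =>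
    ∑ η : IrrCharacter (cent z), classInner (gf Z) (η : cent z → ℂ) * W M b' η₀ η u
  have hdiff : MemLocalIdeal M (Lam R - Lam (T * T)) := by
    have hsub : Lam R - Lam (T * T) = ∑ η : IrrCharacter (cent z),
        classInner (fun x => gf R x - gf (T * T) x) (η : cent z → ℂ) * W M b' η₀ η u := by
      simp only [Lam, ← Finset.sum_sub_distrib, ← sub_mul]
      refine Finset.sum_congr rfl fun η _ => ?_
      rw [← Chars.classInner_sub_left]
      rfl
    rw [hsub]
    refine N.memLocalIdeal_sum_W (fun x h => ?_) (fun x => ?_) (pow_mem N.dih.σ_mem 2)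
    · show gf R _ - gf (T * T) _ = _
      rw [hgfcl R hR, hgfcl _ hTT]
    · have := congrArg (fun Z => Z.coeff x⁻¹) hcong
      simp only [MonoidAlgebra.coeff_mapRingHom] at this
      exact Blocks.residue_eq_iff.1 this
  -- the value at the product of the truncations
  have hbd : blockDefect 2 f = 4 := by
    have h := NilBlock.card_eq hM C.max
    rw [C.dih.card, show 4 * 4 = 2 ^ 4 by norm_num] at h
    exact (Nat.pow_right_injective le_rfl h).symm
  have hres : ∀ η ∈ f, classInner (η : cent z → ℂ) (fun c : cent z => Ψ c) =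
      W M b' η₀ η s / 8 := by
    intro η hηf
    have h1 : classInner (η : cent z → ℂ) φ = W M b' η₀ η s / 8 := by
      rw [← Chars.conj_classInner, hφdef, phi, N.classInner_star_rot selOne_symm, sum_selOne]
      simp only [show (7 : ℕ) = 2 * 4 - 1 by norm_num, N.W_symm η (show 1 ≤ 2 * 4 by norm_num)]
      have hr : conj (W M b' η₀ η s) = W M b' η₀ η s := by simpa using N.real_rot η 1
      simp only [pow_one, map_mul, map_inv₀, map_add, map_ofNat, Complex.conj_natCast, hr]
      push_cast
      ring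
    rw [← h1]
    simp only [classInner]
    congr 1
    refine Finset.sum_congr rfl fun x _ => ?_
    by_cases hx : InS z x
    · rw [hΨdef, indFun_eq hz hφcl hφS hx]
    by_cases hψ : Ψ (x : G) = 0
    · rw [hψ, by_contra fun h => hx (hφS x h)]
    suffices hvan : (η : cent z → ℂ) x = 0 by rw [hvan, zero_mul, zero_mul]
    obtain ⟨y, hy, hne⟩ := exists_of_indFun_ne hψ
    obtain ⟨v, hv⟩ := Blocks.exists_isPPart (p := 2) x
    obtain ⟨v', hv'⟩ := Blocks.exists_isPPart (p := 2) (⟨_, hy⟩ : cent z)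
    obtain ⟨g, w, hw, hgw⟩ := N.exists_conj_of_ne hv' hne
    obtain ⟨l, hl, hwl, hFl⟩ := N.exists_of_rotFun_ne hw
    have hl17 : l = 1 ∨ l = 7 := by
      by_contra h
      push Not at h
      exact hFl (by simp [selOne, h.1, h.2])
    have hw8 : orderOf (((w : b'.1) : cent z)) = 8 := by
      rw [hwl, orderOf_pow, C.dih.orderσ]
      rcases hl17 with rfl | rfl <;> rfl
    have hco : ∀ {a c : cent z}, IsPPart 2 a c → IsPPart 2 (a : G) (c : G) := by
      rintro a c ⟨e, he, hc, ⟨k, hk⟩, he'⟩
      exact ⟨(e : G), congrArg Subtype.val he, congrArg Subtype.val hc.eq,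
        ⟨k, by rw [Subgroup.orderOf_coe, hk]⟩, by rwa [Subgroup.orderOf_coe]⟩
    have hgv : y⁻¹ * (x : G) * y = ((⟨_, hy⟩ : cent z) : G) := rfl
    have hv8 : orderOf v = 8 := by
      have h1 := Blocks.isPPart_conj (hco hv) y⁻¹
      simp only [inv_inv] at h1
      have h2 := Blocks.isPPart_unique h1 (hco hv')
      have e : orderOf (MulAut.conj y⁻¹ (v : G)) = orderOf (v : G) := MulEquiv.orderOf_eq _ _
      rw [MulAut.conj_apply, inv_inv, h2, Subgroup.orderOf_coe, Subgroup.orderOf_coe, ← hgw,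
        ← MulAut.conj_apply, MulEquiv.orderOf_eq, hw8] at e
      exact e.symm
    refine Blocks.char_eq_zero_of_pPart_notMem hM η hv fun D hD hvD => ?_
    rw [← Blocks.HeightZero.eq_blockOf_of_mem C.nil.1 hηf] at hD
    obtain ⟨c, rfl⟩ := Blocks.isDefectGroup_conjugate hM C.nil.1
      (isDefectGroup_of_isMaximal hM C.max) hD
    obtain ⟨d, hd, hdv⟩ := Subgroup.mem_map.1 hvD
    have hd8 : orderOf d = 8 := by
      rw [← hv8, ← hdv]
      exact ((MulAut.conj c).orderOf_eq d).symm
    have hdrot : d ∈ Subgroup.zpowers s := C.dih.mem_of_sq_ne hd fun h => by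
      have := orderOf_dvd_of_pow_eq_one (x := d) (n := 2) (by rw [pow_two, h])
      rw [hd8] at this
      norm_num at this
    have hzd : z ∈ Subgroup.zpowers (d : G) :=
      z_mem_zpowers hM C hη h0 hdrot fun h => by rw [h, orderOf_one] at hd8; norm_num at hd8
    refine hx ⟨(v : G), hco hv, ?_⟩
    obtain ⟨i, hi⟩ := hzd
    refine ⟨i, ?_⟩
    show ((v : G)) ^ i = z
    rw [← hdv]
    show (((c * d * c⁻¹ : cent z)) : G) ^ i = z
    rw [Subgroup.coe_mul, Subgroup.coe_mul, Subgroup.coe_inv, conj_zpow,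
      show (d : G) ^ i = z from hi, mem_cent.1 c.2, mul_inv_cancel_right]
  have hωT : ∀ η ∈ f, Blocks.omega (η : cent z → ℂ) (Blocks.toC M _ T) =
      (Nat.card (cent z) : ℂ) / (η : cent z → ℂ) 1 * (W M b' η₀ η s / 8) := by
    intro η hηf
    rw [← hres η hηf, Blocks.omega_eq_sum, classInner, ← mul_assoc, div_mul_eq_mul_div,
      mul_inv_cancel₀ Chars.natCard_ne_zero, one_div, Finset.mul_sum]
    refine Finset.sum_congr rfl fun g _ => ?_
    rw [hconjΨ]
    show ((T.coeff g : Blocks.localRing M) : ℂ) * _ = _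
    simp only [hTdef, BrauerMap.coeff_trunc, hXdef, Blocks.coeff_ofFun]
    ring
  have hη01 := Chars.irr_apply_one_ne_zero η₀
  have hLT : Lam (T * T) = (Nat.card (cent z) : ℂ) / (16 * (η₀ : cent z → ℂ) 1) := by
    simp only [Lam, hgf]
    rw [← Finset.sum_subset (Finset.subset_univ f.toFinset) fun η _ hη' => by
      rw [N.W_eq_zero (by simpa using hη') (pow_mem N.dih.σ_mem 2), mul_zero]]
    obtain ⟨Φ, hΦ⟩ := N.exists_rows
    choose ε hε hrow using hΦ
    have hdegree : ∀ L : IrrCharacter b'.1, (ε L : ℂ) = 1 ∧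
        ((Φ L : IrrCharacter (cent z)) : cent z → ℂ) 1 =
          (L : b'.1 → ℂ) 1 * (η₀ : cent z → ℂ) 1 := by
      intro L
      obtain ⟨m, hm, hm1, hm2⟩ := N.exists_degree (Φ L).2
      obtain ⟨hd, hd0⟩ := hdeg L
      have h1 := hrow L 1
      rw [Subgroup.coe_one, hm1, ← hd] at h1
      have h2 : (m : ℤ) = ε L * (charDegree (L : b'.1 → ℂ) : ℤ) := by exact_mod_cast h1
      have he : ε L = 1 := by
        have := hε L
        rcases sq_eq_one_iff.1 this with h | h
        · exact h
        · rw [h] at h2; omega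
      refine ⟨by rw [he, Int.cast_one], ?_⟩
      rw [he, Int.cast_one, one_mul] at h1
      rw [hm2, h1, hd]
    have hterm : ∀ η ∈ f.toFinset,
        (η : cent z → ℂ) 1 / (Nat.card (cent z) : ℂ) *
          Blocks.omega (η : cent z → ℂ) (Blocks.toC M _ (T * T)) * W M b' η₀ η u =
        (Nat.card (cent z) : ℂ) / 64 *
          (W M b' η₀ η s * W M b' η₀ η s * W M b' η₀ η u / (η : cent z → ℂ) 1) := by
      intro η hη'
      rw [map_mul, Blocks.omega_mul η (Blocks.map_mem_center _ hT), hωT η (Set.mem_toFinset.1 hη')]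
      have := Chars.irr_apply_one_ne_zero η
      have : (Nat.card (cent z) : ℂ) ≠ 0 := Chars.natCard_ne_zero
      field_simp
      ring
    rw [Finset.sum_congr rfl hterm, ← Finset.mul_sum,
      Finset.sum_subtype f.toFinset (p := fun η => η ∈ f) (fun η => Set.mem_toFinset),
      ← Fintype.sum_equiv Φ (fun L : IrrCharacter b'.1 =>
        (L : b'.1 → ℂ) ⟨s, N.dih.σ_mem⟩ * (L : b'.1 → ℂ) ⟨s, N.dih.σ_mem⟩ *
          conj ((L : b'.1 → ℂ) ⟨s ^ 2, N.pow_mem_b 2⟩) / (L : b'.1 → ℂ) 1 /
            (η₀ : cent z → ℂ) 1) _ ?_, ← Finset.sum_div, N.sum_cube (by norm_num)]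
    · push_cast
      field_simp
      ring
    · intro L
      obtain ⟨he, h1⟩ := hdegree L
      have hs := hrow L ⟨s, N.dih.σ_mem⟩
      have hu' := hrow L ⟨s ^ 2, N.pow_mem_b 2⟩
      have hr := N.real_rot (Φ L : IrrCharacter (cent z)) 2
      rw [he, one_mul] at hs hu'
      simp only at hs hu'
      rw [hu'] at hr
      rw [hr, h1, hs, hudef, hu', div_div]
  -- the value at the truncation of the square
  have hLR : Lam R = (Nat.card G : ℂ) / 64 * ∑ χ ∈ B.toFinset,
      col M b' η₀ χ s ^ 2 * col M b' η₀ χ u / (charDegree (χ : G → ℂ) : ℂ) := by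
    let gX : G → ℂ := fun g => (((X * X).coeff g⁻¹ : Blocks.localRing M) : ℂ)
    have hgX : IsClassFunction G gX := fun g h => by
      show (((X * X).coeff (h * g * h⁻¹)⁻¹ : Blocks.localRing M) : ℂ) = _
      rw [show (h * g * h⁻¹)⁻¹ = h * g⁻¹ * h⁻¹ by group, Blocks.mem_center_iff.1 hXX]
    have hcoef : ∀ χ : IrrCharacter G, classInner gX (χ : G → ℂ) =
        (Nat.card G : ℂ) / 64 * (col M b' η₀ χ s ^ 2 / (χ : G → ℂ) 1) := by
      intro χ
      have hne := Chars.irr_apply_one_ne_zero χ
      have hG : (Nat.card G : ℂ) ≠ 0 := Chars.natCard_ne_zero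
      have h : classInner gX (χ : G → ℂ) = (χ : G → ℂ) 1 / (Nat.card G : ℂ) *
          Blocks.omega (χ : G → ℂ) (Blocks.toC M G (X * X)) := by
        rw [Blocks.omega_eq_sum, classInner, Finset.mul_sum, Finset.mul_sum]
        refine Fintype.sum_equiv (Equiv.inv G) _ _ fun x => ?_
        show (Nat.card G : ℂ)⁻¹ * (((X * X).coeff x⁻¹ : Blocks.localRing M) * conj _) =
          _ * ((((X * X).coeff x⁻¹ : Blocks.localRing M) : ℂ) * ((χ : G → ℂ) x⁻¹ / _))
        rw [Chars.irr_inv]
        field_simp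
      rw [h, map_mul, Blocks.omega_mul χ (Blocks.map_mem_center _ hX), hωX]
      field_simp
      ring
    have hres' : ∀ η : IrrCharacter (cent z), classInner (gf R) (η : cent z → ℂ) =
        ∑ χ : IrrCharacter G, classInner gX (χ : G → ℂ) *
          classInner (fun c : cent z => (χ : G → ℂ) c) (η : cent z → ℂ) := by
      intro η
      have : gf R = ∑ χ : IrrCharacter G, classInner gX (χ : G → ℂ) •
          fun c : cent z => (χ : G → ℂ) c := by
        funext c
        simp only [Finset.sum_apply, Pi.smul_apply, smul_eq_mul]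
        rw [← Chars.isClassFunction_apply_eq_sum_classInner hgX]
        simp only [gf, gX, hRdef, BrauerMap.coeff_trunc, InvMemClass.coe_inv]
      rw [this, Chars.classInner_sum_left]
      exact Finset.sum_congr rfl fun χ _ => Chars.classInner_smul_left _ _ _
    simp only [Lam, hres', Finset.sum_mul]
    rw [Finset.sum_comm, Finset.sum_congr rfl (g := fun χ : IrrCharacter G => classInner gX (χ : G → ℂ) *
      col M b' η₀ χ u) fun χ _ => by
        rw [col, Finset.mul_sum]; exact Finset.sum_congr rfl fun η _ => mul_assoc _ _ _,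
      ← Finset.sum_subset (Finset.subset_univ B.toFinset) fun χ _ hχ => by
        rw [hudef, col_eq_zero hM C hη h0 (w := s ^ 2) (by simpa using hχ) (N.pow_mem_b 2)
          (z_mem_zpowers hM C hη h0 (pow_mem (Subgroup.mem_zpowers s) 2)
            (N.pow_ne_one (Finset.mem_Ioo.2 ⟨by norm_num, by norm_num⟩))), mul_zero],
      Finset.mul_sum]
    refine Finset.sum_congr rfl fun χ _ => ?_
    rw [hcoef, (hdeg χ).1]
    ring
  -- the contradiction
  obtain ⟨p, hpB, hp0, σ, hσ, hsum⟩ := hbad
  obtain ⟨hpd, hpd0⟩ := hdeg p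
  have hBd : blockDefect 2 B = 4 := by rw [← C.maj]; exact hbd
  have hLRM : MemLocalIdeal M (Lam R) := by
    have hS : Lam R = (σ : ℂ) / 16 * (((Nat.card G : ℕ) : ℂ) /
        ((12 * charDegree (p : G → ℂ) : ℕ) : ℂ)) := by
      rw [hLR, hudef, ← hsum]
      push_cast
      have : (charDegree (p : G → ℂ) : ℂ) ≠ 0 := Nat.cast_ne_zero.2 hpd0
      field_simp
      ring
    rw [hS]
    refine Blocks.memLocalIdeal_mul_left ?_ (Blocks.memLocalIdeal_natCast_div hM
      (by positivity) ?_)
    · rcases hσ with rfl | rfl <;> norm_num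
      · exact Blocks.mem_localRing.1 (one_mem _)
      · exact Blocks.mem_localRing.1 (neg_mem (one_mem _))
    · rw [Nat.factorization_mul (by norm_num) hpd0, Finsupp.add_apply,
        show (12 : ℕ) = 2 ^ 2 * 3 by norm_num, Nat.factorization_mul (by norm_num) (by norm_num),
        Finsupp.add_apply, Nat.prime_two.factorization_pow, Finsupp.single_eq_same,
        Nat.factorization_eq_zero_of_not_dvd (show ¬ 2 ∣ 3 by norm_num)]
      have := BrauerFeit.factorization_add_defect (p := 2) hpB
      rw [hp0, hBd] at this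
      omega
  have hTTM : MemLocalIdeal M (Lam (T * T)) := by
    simpa using Blocks.memLocalIdeal_sub hLRM hdiff
  obtain ⟨hd, hd0'⟩ := hdeg η₀
  have hfac := BrauerFeit.factorization_add_defect (p := 2) hη
  rw [h0, hbd] at hfac
  set a := Nat.card (cent z) with hadef
  set c := 16 * charDegree (η₀ : cent z → ℂ) with hcdef
  have hc0 : c ≠ 0 := by positivity
  have hratio : (c : ℂ) / (a : ℂ) ∈ Blocks.localRing M := by
    refine Blocks.natCast_div_mem_localRing hM Nat.card_pos.ne' (Or.inl ?_)
    rw [hcdef, Nat.factorization_mul (by norm_num) hd0', Finsupp.add_apply,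
      show (16 : ℕ) = 2 ^ 4 by norm_num, Nat.prime_two.factorization_pow, Finsupp.single_eq_same]
    omega
  have hone := Blocks.memLocalIdeal_mul_right hTTM hratio
  rw [hLT, ← hd, show (16 : ℂ) * (charDegree (η₀ : cent z → ℂ) : ℂ) = (c : ℂ) by
    rw [hcdef]; push_cast; ring, div_mul_div_cancel₀ (Nat.cast_ne_zero.2 hc0),
    div_self (Nat.cast_ne_zero.2 Nat.card_pos.ne')] at hone
  rw [← Nat.cast_one, Blocks.memLocalIdeal_natCast_iff hM] at hone
  norm_num at hone

end Global

end Cfsg.Agent.Lib.DihedralDefect
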