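import Cfsg.Agent.Lib.DihedralDefect.Group
import Cfsg.Agent.Lib.NilBlock.Main
import Cfsg.Agent.Lib.CharCount.Basic
import Mathlib

/-!
# A nilpotent block with dihedral defect group: its class functions on the rotations
-/

set_option autoImplicit false
set_option linter.unusedSectionVars false

namespace Cfsg.Agent.Lib.DihedralDefect

open Finset Cfsg
open Cfsg.Agent.Lib
open Cfsg.Agent.Lib.BrauerPairs
open Cfsg.Agent.Lib.NilBlock (bu bu_fst wt con coef)
open scoped ComplexConjugate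

universe u

attribute [local instance] Classical.propDecidable

theorem geom_root {z : ℂ} {n : ℕ} (h : z ^ n = 1) :
    ∑ l ∈ Finset.range n, z ^ l = if z = 1 then (n : ℂ) else 0 := by
  split_ifs with h1
  · subst h1; simp
  · rw [geom_sum_eq h1, h, sub_self, zero_div]

/-- The values of a character at the powers of an element come from one family of eigenvalues. -/
theorem exists_roots_pow {G : Type u} [Group G] [Finite G] (χ : IrrCharacter G) (g : G) :
    ∃ (ι : Type) (_ : Fintype ι) (μ : ι → ℂ), (∀ i, μ i ^ orderOf g = 1) ∧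
      ∀ l : ℕ, (χ : G → ℂ) (g ^ l) = ∑ i, μ i ^ l := by
  obtain ⟨d, ρ, -, hρ⟩ := χ.2
  obtain ⟨ι, _, b, μ, hm, hb⟩ := Chars.exists_eigenbasis ρ g
  refine ⟨ι, inferInstance, μ, hm, fun l => ?_⟩
  rw [← hρ]
  refine Chars.trace_eq_sum_of_eigenbasis _ b _ fun i => ?_
  induction l with
  | zero => simp
  | succ l ih =>
    rw [pow_succ, map_mul, Module.End.mul_apply, hb i, map_smul, ih, smul_smul, pow_succ, mul_comm]

variable {K : Type u} [Group K] [Fintype K] {M : Ideal AlgInt} [M.IsPrime]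
  {f : Set (IrrCharacter K)} {b : BrauerPairIdx K} {s t : K} {q : ℕ} {η₀ : IrrCharacter K}

/-- The hypotheses of this file. -/
structure NilDih (M : Ideal AlgInt) (f : Set (IrrCharacter K)) (b : BrauerPairIdx K) (s t : K)
    (q : ℕ) (η₀ : IrrCharacter K) : Prop where
  modular : IsPModular 2 M
  max : IsMaximalBrauerPair 2 M f b.1 b.2
  nil : IsNilpotentBlock 2 M f
  dih : Dih b.1 s t q
  mem : η₀ ∈ f
  h0 : blockHeight 2 f (η₀ : K → ℂ) = 0

/-- The row of `η₀`. -/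
noncomputable def W (M : Ideal AlgInt) (b : BrauerPairIdx K) (η₀ η : IrrCharacter K) (w : K) : ℂ :=
  wt 2 M b w η η₀

/-- The star product of a function on the defect group with `η₀`. -/
noncomputable def starθ (M : Ideal AlgInt) [M.IsPrime] (b : BrauerPairIdx K)
    (η₀ : IrrCharacter K) (θ : b.1 → ℂ) : K → ℂ :=
  Star.starFun M 2 (coef 2 M b θ) (η₀ : K → ℂ)

/-- The function on the defect group with values `F` on the powers of `s` and zero elsewhere. -/
noncomputable def rotFun (b : BrauerPairIdx K) (s : K) (q : ℕ) (F : ℕ → ℂ) (w : b.1) : ℂ :=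
  ∑ l ∈ Finset.Ioo 0 (2 * q), if (w : K) = s ^ l then F l else 0

namespace NilDih

variable (N : NilDih M f b s t q η₀)
include N

theorem rank_local (w : K) (hw : w ∈ b.1) : blockRank 2 (bu 2 M b w).2 = 1 :=
  NilBlock.blockRank_bu N.modular N.max N.nil hw

theorem isClassFunction_starθ {θ : b.1 → ℂ} (hθ : IsClassFunction b.1 θ) :
    IsClassFunction K (starθ M b η₀ θ) :=
  Star.isClassFunction_starFun (fun x u _ _ ha => NilBlock.coef_conj N.modular N.max N.nil hθ x u ha)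
    (Chars.irr_isClassFunction η₀)

theorem classInner_starθ {θ : b.1 → ℂ} (hθ : IsClassFunction b.1 θ) (η : IrrCharacter K) :
    classInner (starθ M b η₀ θ) (η : K → ℂ) =
      (Nat.card b.1 : ℂ)⁻¹ * ∑ w : b.1, θ w * conj (W M b η₀ η (w : K)) := by
  rw [eq_inv_mul_iff_mul_eq₀ Chars.natCard_ne_zero, starθ,
    NilBlock.classInner_star N.modular N.max N.nil hθ N.mem]
  exact Finset.sum_congr rfl fun w _ => by rw [W, NilBlock.conj_wt]

theorem W_eq_zero {η : IrrCharacter K} (hη : η ∉ f) {w : K} (hw : w ∈ b.1) :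
    W M b η₀ η w = 0 := by
  rw [W, wt, con, Contrib.contrib, Finset.sum_eq_zero, mul_zero]
  intro ξ hξ
  rw [NilBlock.secCoef_eq_zero N.modular (NilBlock.exists_orderOf_eq N.modular N.max hw) (bu_fst w)
    (NilBlock.isBrauerPairOf_bu N.modular N.max hw) hη (Set.mem_toFinset.1 hξ), zero_mul]

theorem exists_rows : ∃ Φ : IrrCharacter b.1 ≃ f, ∀ l : IrrCharacter b.1, ∃ ε : ℤ, ε ^ 2 = 1 ∧
    ∀ w : b.1, W M b η₀ (Φ l) w = (ε : ℂ) * (l : b.1 → ℂ) w :=
  NilBlock.exists_rows N.modular N.max N.nil (fun w hw _ => N.rank_local w hw) N.mem N.h0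

theorem W_mul {w : K} (hw : w ∈ b.1) (η η' : IrrCharacter K) :
    wt 2 M b w η η' = W M b η₀ η w * conj (W M b η₀ η' w) := by
  rw [NilBlock.wt_eq_mul N.modular N.max N.nil hw (N.rank_local w hw)
    (NilBlock.wt_self_eq_one N.modular N.max N.nil (fun w hw _ => N.rank_local w hw) N.mem N.h0 hw),
    W, W, NilBlock.conj_wt]

theorem parseval {θ θ' : b.1 → ℂ} (hθ : IsClassFunction b.1 θ) (hθ' : IsClassFunction b.1 θ') :
    classInner (starθ M b η₀ θ) (starθ M b η₀ θ') = classInner θ θ' := by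
  obtain ⟨Φ, hΦ⟩ := N.exists_rows
  choose ε hε hrow using hΦ
  have hval : ∀ {θ : b.1 → ℂ}, IsClassFunction b.1 θ → ∀ l : IrrCharacter b.1,
      classInner (starθ M b η₀ θ) ((Φ l : IrrCharacter K) : K → ℂ) =
        (ε l : ℂ) * classInner θ (l : b.1 → ℂ) := by
    intro θ hθ l
    rw [N.classInner_starθ hθ, classInner, mul_left_comm]
    congr 1
    rw [Finset.mul_sum]
    exact Finset.sum_congr rfl fun w _ => by rw [hrow l w, map_mul, map_intCast]; ring
  rw [Chars.classInner_eq_sum_mul_conj (N.isClassFunction_starθ hθ) (N.isClassFunction_starθ hθ'),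
    Chars.classInner_eq_sum_mul_conj hθ hθ',
    ← Finset.sum_subset (Finset.subset_univ f.toFinset) (fun η _ hη => by
      rw [N.classInner_starθ hθ, Finset.sum_eq_zero fun w _ => by
        rw [N.W_eq_zero (by simpa using hη) w.2, map_zero, mul_zero]]
      simp)]
  rw [Finset.sum_subtype f.toFinset (p := fun η => η ∈ f) (fun η => Set.mem_toFinset)]
  refine (Fintype.sum_equiv Φ _ _ fun l => ?_).symm
  have h2 : (ε l : ℂ) * (ε l : ℂ) = 1 := by rw [← pow_two]; exact_mod_cast hε l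
  rw [hval hθ, hval hθ', map_mul, map_intCast]
  linear_combination (-(classInner θ (l : b.1 → ℂ) * conj (classInner θ' (l : b.1 → ℂ)))) * h2

/-- Where a star product does not vanish. -/
theorem exists_conj_of_ne {θ : b.1 → ℂ} {x v : K} (hv : IsPPart 2 x v)
    (h : starθ M b η₀ θ x ≠ 0) :
    ∃ (g : K) (w : b.1), θ w ≠ 0 ∧ g * (w : K) * g⁻¹ = v := by
  rw [starθ, Star.starFun_apply hv] at h
  obtain ⟨a, -, ha⟩ := Finset.exists_ne_zero_of_sum_ne_zero h
  have hc := left_ne_zero_of_mul ha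
  rw [coef] at hc
  split_ifs at hc with hex
  · exact ⟨hex.choose, hex.choose_spec.choose, hc, hex.choose_spec.choose_spec.1⟩
  · exact absurd rfl hc

/-- Star products have algebraic integer values. -/
theorem isIntegral_starθ {θ : b.1 → ℂ} (hθ : ∀ w, IsIntegral ℤ (θ w)) (x : K) :
    IsIntegral ℤ (starθ M b η₀ θ x) := by
  refine Star.isIntegral_starFun (fun u a => ?_) (Chars.irr_isCharacter η₀) x
  rw [coef]
  split_ifs
  exacts [hθ _, isIntegral_zero]

theorem conj_W {η : IrrCharacter K} {w : K} (hw : w ∈ b.1) :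
    conj (W M b η₀ η w) = W M b η₀ η w⁻¹ := by
  by_cases hη : η ∈ f
  · obtain ⟨Φ, hΦ⟩ := N.exists_rows
    obtain ⟨l, hl⟩ := Φ.surjective ⟨η, hη⟩
    obtain ⟨ε, -, hε⟩ := hΦ l
    have h1 := hε ⟨w, hw⟩
    have h2 := hε (⟨w, hw⟩⁻¹)
    rw [hl] at h1 h2
    simp only [InvMemClass.coe_inv] at h2
    rw [h1, h2, map_mul, map_intCast, Chars.irr_inv]
  · rw [N.W_eq_zero hη hw, N.W_eq_zero hη (inv_mem hw), map_zero]

theorem W_inv_rot {η : IrrCharacter K} {w : K} (hw : w ∈ Subgroup.zpowers s) :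
    W M b η₀ η w⁻¹ = W M b η₀ η w := by
  have htt : t⁻¹ = t := inv_eq_of_mul_eq_one_right N.dih.ττ
  have h : w⁻¹ = t * w * t⁻¹ := by rw [htt, N.dih.inverts hw]
  rw [W, h, NilBlock.wt_conj N.modular N.max (N.dih.rot_le hw) N.dih.τ_mem]
  rfl

theorem pow_mem_b (l : ℕ) : s ^ l ∈ b.1 := pow_mem N.dih.σ_mem l

theorem real_rot (η : IrrCharacter K) (l : ℕ) :
    conj (W M b η₀ η (s ^ l)) = W M b η₀ η (s ^ l) := by
  rw [N.conj_W (N.pow_mem_b l), N.W_inv_rot (pow_mem (Subgroup.mem_zpowers s) l)]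

theorem rot_inv {l : ℕ} (hl : l ≤ 2 * q) : s ^ (2 * q - l) = (s ^ l)⁻¹ :=
  eq_inv_of_mul_eq_one_left (by rw [← pow_add, Nat.sub_add_cancel hl, N.dih.pow_two_q])

theorem W_symm (η : IrrCharacter K) {l : ℕ} (hl : l ≤ 2 * q) :
    W M b η₀ η (s ^ (2 * q - l)) = W M b η₀ η (s ^ l) := by
  rw [N.rot_inv hl, N.W_inv_rot (pow_mem (Subgroup.mem_zpowers s) l)]

/-- The integer coordinates. -/
theorem exists_int_coord (η : IrrCharacter K) {ζ : ℂ} (hζ : ζ ^ (2 * q) = 1) :
    ∃ n : ℤ, ∑ l ∈ Finset.range (2 * q), W M b η₀ η (s ^ l) * (ζ ^ l - 1) = (2 * q : ℂ) * n := by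
  by_cases hη : η ∈ f
  swap
  · exact ⟨0, by simp [N.W_eq_zero hη (N.pow_mem_b _)]⟩
  obtain ⟨Φ, hΦ⟩ := N.exists_rows
  obtain ⟨L, hL⟩ := Φ.surjective ⟨η, hη⟩
  obtain ⟨ε, -, hε⟩ := hΦ L
  obtain ⟨ι, _, μ, hm, hval⟩ := exists_roots_pow L ⟨s, N.dih.σ_mem⟩
  rw [Subgroup.orderOf_mk, N.dih.orderσ] at hm
  have hW : ∀ l : ℕ, W M b η₀ η (s ^ l) = (ε : ℂ) * ∑ i, μ i ^ l := fun l => by
    have h := hε (⟨s, N.dih.σ_mem⟩ ^ l)
    rw [hL, SubmonoidClass.coe_pow, hval] at h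
    exact h
  refine ⟨ε * ∑ i, ((if μ i * ζ = 1 then 1 else 0) - (if μ i = 1 then 1 else 0)), ?_⟩
  push_cast
  simp only [hW, Finset.mul_sum, Finset.sum_mul]
  rw [Finset.sum_comm]
  refine Finset.sum_congr rfl fun i _ => ?_
  simp only [mul_sub, mul_assoc, ← mul_pow, mul_one, Finset.sum_sub_distrib, ← Finset.mul_sum]
  rw [geom_root (by rw [mul_pow, hm, hζ, one_mul]), geom_root (hm i)]
  push_cast
  split_ifs <;> ring

/-- The degree data of a member. -/
theorem exists_degree {η : IrrCharacter K} (hη : η ∈ f) :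
    ∃ m : ℕ, 0 < m ∧ W M b η₀ η 1 = (m : ℂ) ∧
      (η : K → ℂ) 1 = (m : ℂ) * (η₀ : K → ℂ) 1 := by
  have hr : ∀ w ∈ b.1, w ∉ Subgroup.center K → blockRank 2 (bu 2 M b w).2 = 1 :=
    fun w hw _ => N.rank_local w hw
  obtain ⟨-, Φ, hΦ⟩ := NilBlock.exists_structure N.modular N.max N.nil hr N.mem N.h0
  set m := charDegree ((Φ ⟨η, hη⟩ : IrrCharacter b.1) : b.1 → ℂ) with hm
  have hreg : pRegularPart 2 (η : K → ℂ) = (m : ℂ) • pRegularPart 2 (η₀ : K → ℂ) := by
    funext x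
    rw [(hΦ ⟨η, hη⟩).1 x, Pi.smul_apply, smul_eq_mul]
  refine ⟨m, Nat.pos_of_ne_zero (Blocks.HeightZero.charDegree_eq _).2, ?_, ?_⟩
  · have h1 : BrauerFeit.regCoef 2 η η₀ = (m : ℂ) * BrauerFeit.regCoef 2 η₀ η₀ := by
      rw [BrauerFeit.regCoef, BrauerFeit.regCoef, hreg, Chars.classInner_smul_left]
    have h2 := NilBlock.wt_self_eq_one N.modular N.max N.nil hr N.mem N.h0 (one_mem b.1)
    rw [NilBlock.wt_one N.modular N.max N.mem] at h2
    rw [W, NilBlock.wt_one N.modular N.max hη, h1, mul_left_comm, h2, mul_one]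
  · have h := congrFun hreg 1
    simpa [BrauerFeit.pRegularPart_apply] using h

theorem eq_pow_iff {l l' : ℕ} (hl : l < 2 * q) (hl' : l' < 2 * q) : s ^ l = s ^ l' ↔ l = l' :=
  ⟨fun h => pow_injOn_Iio_orderOf (by simpa [N.dih.orderσ] using hl)
    (by simpa [N.dih.orderσ] using hl') h, fun h => h ▸ rfl⟩

theorem pow_ne_one {l : ℕ} (hl : l ∈ Finset.Ioo 0 (2 * q)) : s ^ l ≠ 1 := fun h => by
  rw [Finset.mem_Ioo] at hl
  have := Nat.le_of_dvd hl.1 (orderOf_dvd_of_pow_eq_one h)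
  rw [N.dih.orderσ] at this
  omega

theorem rotFun_apply {F : ℕ → ℂ} {w : b.1} {l : ℕ} (hl : l ∈ Finset.Ioo 0 (2 * q))
    (hw : (w : K) = s ^ l) : rotFun b s q F w = F l := by
  rw [rotFun, Finset.sum_eq_single l]
  · rw [if_pos hw]
  · intro k hk hkl
    rw [if_neg]
    rw [hw]
    exact fun h => hkl ((N.eq_pow_iff (Finset.mem_Ioo.1 hl).2 (Finset.mem_Ioo.1 hk).2).1 h).symm
  · exact fun h => absurd hl h

theorem exists_of_rotFun_ne {F : ℕ → ℂ} {w : b.1} (h : rotFun b s q F w ≠ 0) :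
    ∃ l ∈ Finset.Ioo 0 (2 * q), (w : K) = s ^ l ∧ F l ≠ 0 := by
  obtain ⟨l, hl, hne⟩ := Finset.exists_ne_zero_of_sum_ne_zero h
  split_ifs at hne with hw
  exacts [⟨l, hl, hw, hne⟩, absurd rfl hne]

theorem isClassFunction_rotFun {F : ℕ → ℂ} (hF : ∀ l ∈ Finset.Ioo 0 (2 * q), F (2 * q - l) = F l) :
    IsClassFunction b.1 (rotFun b s q F) := by
  intro w x
  by_cases h : ∃ l ∈ Finset.Ioo 0 (2 * q), (w : K) = s ^ l
  · obtain ⟨l, hl, hw⟩ := h
    have hl' := Finset.mem_Ioo.1 hl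
    rcases N.dih.conj_cases x.2 (pow_mem (Subgroup.mem_zpowers s) l) with hc | hc
    · rw [N.rotFun_apply hl hw, N.rotFun_apply hl (by simp [hw, hc])]
    · have hm : 2 * q - l ∈ Finset.Ioo 0 (2 * q) := Finset.mem_Ioo.2 ⟨by omega, by omega⟩
      rw [N.rotFun_apply hl hw, N.rotFun_apply hm (by
        simp [hw, hc, N.rot_inv hl'.2.le]), hF l hl]
  · have hz : ∀ w : b.1, (¬ ∃ l ∈ Finset.Ioo 0 (2 * q), (w : K) = s ^ l) →
        rotFun b s q F w = 0 := fun w hw => Finset.sum_eq_zero fun l hl =>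
      if_neg fun e => hw ⟨l, hl, e⟩
    rw [hz w h, hz]
    rintro ⟨l, hl, hw⟩
    have hl' := Finset.mem_Ioo.1 hl
    rw [Subgroup.coe_mul, Subgroup.coe_mul, Subgroup.coe_inv] at hw
    have hw' : (w : K) = (x : K)⁻¹ * s ^ l * (x : K)⁻¹⁻¹ := by rw [← hw]; group
    rcases N.dih.conj_cases (inv_mem x.2) (pow_mem (Subgroup.mem_zpowers s) l) with hc | hc
    · exact h ⟨l, hl, hw'.trans hc⟩
    · exact h ⟨2 * q - l, Finset.mem_Ioo.2 ⟨by omega, by omega⟩,
        hw'.trans (hc.trans (N.rot_inv hl'.2.le).symm)⟩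

theorem sum_rotFun_mul (F : ℕ → ℂ) (g : K → ℂ) :
    ∑ w : b.1, rotFun b s q F w * g w = ∑ l ∈ Finset.Ioo 0 (2 * q), F l * g (s ^ l) := by
  simp only [rotFun, Finset.sum_mul]
  rw [Finset.sum_comm]
  refine Finset.sum_congr rfl fun l _ => ?_
  rw [Finset.sum_eq_single (⟨s ^ l, N.pow_mem_b l⟩ : b.1)]
  · rw [if_pos rfl]
  · intro w _ hw
    rw [if_neg fun h => hw (Subtype.ext h), zero_mul]
  · exact fun h => absurd (Finset.mem_univ _) h

theorem classInner_star_rot {F : ℕ → ℂ} (hF : ∀ l ∈ Finset.Ioo 0 (2 * q), F (2 * q - l) = F l)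
    (η : IrrCharacter K) :
    classInner (starθ M b η₀ (rotFun b s q F)) (η : K → ℂ) =
      (4 * q : ℂ)⁻¹ * ∑ l ∈ Finset.Ioo 0 (2 * q), F l * W M b η₀ η (s ^ l) := by
  rw [N.classInner_starθ (N.isClassFunction_rotFun hF),
    N.sum_rotFun_mul F fun w => conj (W M b η₀ η w), N.dih.card]
  push_cast
  simp only [N.real_rot]

theorem classInner_rotFun (F F' : ℕ → ℂ) :
    classInner (rotFun b s q F) (rotFun b s q F') =
      (4 * q : ℂ)⁻¹ * ∑ l ∈ Finset.Ioo 0 (2 * q), F l * conj (F' l) := by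
  rw [classInner, N.dih.card]
  push_cast
  congr 1
  rw [Finset.sum_congr rfl (g := fun w : b.1 => rotFun b s q F w *
    conj (rotFun b s q F' w)) fun w _ => rfl]
  simp only [rotFun, Finset.sum_mul]
  rw [Finset.sum_comm]
  refine Finset.sum_congr rfl fun l hl => ?_
  rw [Finset.sum_eq_single (⟨s ^ l, N.pow_mem_b l⟩ : b.1)]
  · rw [if_pos rfl]
    congr 1
    exact congrArg conj (N.rotFun_apply hl rfl)
  · intro w _ hw
    rw [if_neg fun h => hw (Subtype.ext h), zero_mul]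
  · exact fun h => absurd (Finset.mem_univ _) h

/-- A count in the class algebra of the defect group. -/
theorem sum_cube (hq : 3 ≤ q) :
    ∑ L : IrrCharacter b.1, (L : b.1 → ℂ) ⟨s, N.dih.σ_mem⟩ * (L : b.1 → ℂ) ⟨s, N.dih.σ_mem⟩ *
      conj ((L : b.1 → ℂ) ⟨s ^ 2, N.pow_mem_b 2⟩) / (L : b.1 → ℂ) 1 = (q : ℂ) := by
  set S : b.1 := ⟨s, N.dih.σ_mem⟩
  set U : b.1 := ⟨s ^ 2, N.pow_mem_b 2⟩
  have hU : s ^ 2 * s ^ 2 ≠ 1 := by
    rw [← pow_add]
    exact N.pow_ne_one (Finset.mem_Ioo.2 ⟨by norm_num, by omega⟩)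
  have hU1 : s ^ 2 ≠ 1 := fun h => hU (by rw [h, one_mul])
  have h1 : (Nat.card b.1 : ℂ) * ∑ L : IrrCharacter b.1, (L : b.1 → ℂ) S * (L : b.1 → ℂ) S *
      conj ((L : b.1 → ℂ) U) / (L : b.1 → ℂ) 1 =
      ∑ x : b.1, ∑ L : IrrCharacter b.1,
        (L : b.1 → ℂ) (S * (x * S * x⁻¹)) * conj ((L : b.1 → ℂ) U) := by
    rw [Finset.sum_comm, Finset.mul_sum]
    refine Finset.sum_congr rfl fun L _ => ?_
    rw [← Finset.sum_mul, CharCount.sum_conj_mul]
    ring
  have hcase : ∀ x : b.1, ∑ L : IrrCharacter b.1,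
        (L : b.1 → ℂ) (S * (x * S * x⁻¹)) * conj ((L : b.1 → ℂ) U) =
      if (x : K) ∈ Subgroup.zpowers s then (2 * q : ℂ) else 0 := by
    intro x
    split_ifs with hx
    · have hSx : S * (x * S * x⁻¹) = U := Subtype.ext (by
        show s * ((x : K) * s * (x : K)⁻¹) = s ^ 2
        rw [N.dih.commute_zpowers hx (Subgroup.mem_zpowers s), mul_inv_cancel_right, pow_two])
      rw [hSx, Chars.column_orthogonality_of_isConj (IsConj.refl _)]
      have hcard : Nat.card (Subgroup.centralizer ({U} : Set b.1)) = 2 * q := by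
        rw [← N.dih.orderσ, ← Nat.card_zpowers]
        refine Nat.card_congr
          { toFun := fun y => ⟨((y : b.1) : K), N.dih.mem_of_commute (y : b.1).2
              (pow_mem (Subgroup.mem_zpowers s) 2) hU
              (congrArg Subtype.val (Subgroup.mem_centralizer_singleton_iff.1 y.2))⟩
            invFun := fun y => ⟨⟨y, N.dih.rot_le y.2⟩, Subgroup.mem_centralizer_singleton_iff.2
              (Subtype.ext (N.dih.commute_zpowers y.2 (pow_mem (Subgroup.mem_zpowers s) 2)))⟩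
            left_inv := fun _ => rfl
            right_inv := fun _ => rfl }
      rw [hcard]
      push_cast
      rfl
    · refine Chars.column_orthogonality_of_not_isConj fun hc => ?_
      obtain ⟨y, hy⟩ := isConj_iff.1 hc
      have hSx : S * (x * S * x⁻¹) = 1 := Subtype.ext (by
        show s * ((x : K) * s * (x : K)⁻¹) = 1
        rw [N.dih.refl_conj ((N.dih.decomp _ x.2).resolve_left hx) (Subgroup.mem_zpowers s),
          mul_inv_cancel])
      rw [hSx, mul_one, mul_inv_cancel] at hy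
      exact hU1 (congrArg Subtype.val hy).symm
  rw [Finset.sum_congr rfl fun x _ => hcase x, ← Finset.sum_filter, Finset.sum_const,
    nsmul_eq_mul] at h1
  have hfil : (Finset.univ.filter fun x : b.1 => (x : K) ∈ Subgroup.zpowers s).card = 2 * q := by
    rw [← N.dih.orderσ, ← Nat.card_zpowers, ← Nat.card_eq_finsetCard]
    exact Nat.card_congr
      { toFun := fun y => ⟨(y.1 : K), (Finset.mem_filter.1 y.2).2⟩
        invFun := fun y => ⟨⟨y, N.dih.rot_le y.2⟩, Finset.mem_filter.2 ⟨Finset.mem_univ _, y.2⟩⟩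
        left_inv := fun _ => rfl
        right_inv := fun _ => rfl }
  rw [hfil, N.dih.card] at h1
  push_cast at h1
  have hq0 : (q : ℂ) ≠ 0 := Nat.cast_ne_zero.2 N.dih.q_pos.ne'
  refine mul_left_cancel₀ (mul_ne_zero (by norm_num : (4 : ℂ) ≠ 0) hq0) (h1.trans ?_)
  ring

end NilDih

end Cfsg.Agent.Lib.DihedralDefect
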