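import Mathlib

/-!
# A dihedral subgroup of order at least eight and its odd automorphisms
-/

set_option autoImplicit false

namespace Cfsg.Agent.Lib.DihedralDefect

open Subgroup

universe u

/-- `P` is dihedral of order `4q` with rotation `σ` and reflection `τ`. -/
structure Dih {G : Type u} [Group G] (P : Subgroup G) (σ τ : G) (q : ℕ) : Prop where
  two_le : 2 ≤ q
  isPow : ∃ e, q = 2 ^ e
  σ_mem : σ ∈ P
  τ_mem : τ ∈ P
  orderσ : orderOf σ = 2 * q
  ττ : τ * τ = 1
  rel : τ * σ * τ = σ⁻¹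
  decomp : ∀ y ∈ P, y ∈ zpowers σ ∨ τ * y ∈ zpowers σ
  τ_notMem : τ ∉ zpowers σ
  card : Nat.card P = 4 * q

/-- A group with two generators as above, from an isomorphism. -/
theorem exists_dih {G : Type u} [Group G] {P : Subgroup G} {n : ℕ} (hn : 3 ≤ n)
    (hP : Nonempty (P ≃* DihedralGroup (2 ^ (n - 1)))) :
    ∃ σ τ : G, Dih P σ τ (2 ^ (n - 2)) := by
  obtain ⟨e⟩ := hP
  have hq : 2 ≤ 2 ^ (n - 2) := le_self_pow₀ (by norm_num : (1 : ℕ) ≤ 2) (by omega)
  have hm : 2 ^ (n - 1) = 2 * 2 ^ (n - 2) := by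
    rw [← pow_succ', show n - 2 + 1 = n - 1 by omega]
  haveI : NeZero (2 ^ (n - 1)) := ⟨by positivity⟩
  refine ⟨(e.symm (DihedralGroup.r 1) : P), (e.symm (DihedralGroup.sr 0) : P),
    ⟨hq, ⟨n - 2, rfl⟩, SetLike.coe_mem _, SetLike.coe_mem _, ?_, ?_, ?_, ?_, ?_, ?_⟩⟩
  · rw [Subgroup.orderOf_coe, MulEquiv.orderOf_eq, DihedralGroup.orderOf_r_one, hm]
  · rw [← Subgroup.coe_mul, ← map_mul, DihedralGroup.sr_mul_self, map_one, Subgroup.coe_one]
  · rw [← Subgroup.coe_mul, ← Subgroup.coe_mul, ← map_mul, ← map_mul, ← Subgroup.coe_inv,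
      ← map_inv]
    congr 2
    simp
  · intro y hy
    have hrot : ∀ j, ((e.symm (DihedralGroup.r j) : P) : G) ∈
        zpowers ((e.symm (DihedralGroup.r 1) : P) : G) := fun j => ⟨(j.val : ℤ), by
      show _ ^ ((j.val : ℕ) : ℤ) = _
      rw [zpow_natCast, ← SubmonoidClass.coe_pow, ← map_pow, DihedralGroup.r_one_pow,
        ZMod.natCast_zmod_val]⟩
    rcases h : e ⟨y, hy⟩ with j | j
    · left
      rw [show y = ((e.symm (e ⟨y, hy⟩) : P) : G) by simp, h]
      exact hrot j
    · right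
      rw [show y = ((e.symm (e ⟨y, hy⟩) : P) : G) by simp, h, ← Subgroup.coe_mul, ← map_mul,
        DihedralGroup.sr_mul_sr]
      exact hrot _
  · rintro ⟨i, hi⟩
    have h1 : e.symm (DihedralGroup.r 1 ^ i) = e.symm (DihedralGroup.sr 0) := by
      rw [map_zpow]
      refine Subtype.ext ?_
      rw [Subgroup.coe_zpow]
      exact hi
    have h2 := e.symm.injective h1
    rw [DihedralGroup.r_one_zpow] at h2
    cases h2
  · rw [Nat.card_congr e.toEquiv, DihedralGroup.nat_card, hm]
    ring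

/-- Elements of the same order in a cyclic group generate the same subgroup. -/
theorem zpowers_eq_of_orderOf {G : Type u} [Group G] [Finite G] {a b c : G} (ha : a ∈ zpowers c)
    (hb : b ∈ zpowers c) (h : orderOf a = orderOf b) : zpowers a = zpowers b := by
  classical
  haveI := Fintype.ofFinite (zpowers c)
  set U : Finset (zpowers c) :=
    Finset.univ.filter fun y : zpowers c => (y : G) ∈ zpowers b with hU
  set T : Finset (zpowers c) :=
    Finset.univ.filter fun y : zpowers c => y ^ orderOf b = 1 with hT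
  have hsub : U ⊆ T := by
    intro y hy
    rw [hT, Finset.mem_filter]
    refine ⟨Finset.mem_univ _, Subtype.ext ?_⟩
    rw [Subgroup.coe_pow, Subgroup.coe_one]
    exact orderOf_dvd_iff_pow_eq_one.1 (orderOf_dvd_of_mem_zpowers (Finset.mem_filter.1 hy).2)
  have hcard : U.card = orderOf b := by
    rw [← Nat.card_zpowers b, ← Nat.card_eq_finsetCard]
    exact Nat.card_congr
      { toFun := fun y => ⟨(y.1 : G), (Finset.mem_filter.1 y.2).2⟩
        invFun := fun y => ⟨⟨y.1, (zpowers_le.2 hb) y.2⟩, Finset.mem_filter.2 ⟨Finset.mem_univ _, y.2⟩⟩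
        left_inv := fun _ => rfl
        right_inv := fun _ => rfl }
  have hUT : U = T := Finset.eq_of_subset_of_card_le hsub
    (hcard ▸ IsCyclic.card_pow_eq_one_le (orderOf_pos b))
  have hab : a ∈ zpowers b := by
    have : (⟨a, ha⟩ : zpowers c) ∈ T := by
      rw [hT, Finset.mem_filter]
      refine ⟨Finset.mem_univ _, Subtype.ext ?_⟩
      rw [Subgroup.coe_pow, Subgroup.coe_one]
      show a ^ orderOf b = 1
      rw [← h, pow_orderOf_eq_one]
    rw [← hUT] at this
    exact (Finset.mem_filter.1 this).2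
  exact Subgroup.eq_of_le_of_card_ge (zpowers_le.2 hab)
    (by rw [Nat.card_zpowers, Nat.card_zpowers, h])

namespace Dih

variable {G : Type u} [Group G] {P : Subgroup G} {σ τ : G} {q : ℕ} (D : Dih P σ τ q)
include D

theorem q_pos : 0 < q := by have := D.two_le; omega

theorem even_q : 2 ∣ q := by
  obtain ⟨e, rfl⟩ := D.isPow
  rcases e with _ | e
  · exact absurd D.two_le (by norm_num)
  · exact dvd_pow_self 2 (by omega)

theorem rot_le : zpowers σ ≤ P := zpowers_le.2 D.σ_mem

theorem pow_two_q : σ ^ (2 * q) = 1 := by rw [← D.orderσ, pow_orderOf_eq_one]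

theorem inverts {z : G} (hz : z ∈ zpowers σ) : τ * z * τ = z⁻¹ := by
  obtain ⟨i, rfl⟩ := hz
  have ht : τ⁻¹ = τ := inv_eq_of_mul_eq_one_right D.ττ
  have h : (τ * σ * τ⁻¹) ^ i = (σ⁻¹) ^ i := by rw [ht, D.rel]
  rw [conj_zpow, ht, inv_zpow] at h
  exact h

theorem commute_zpowers {y z : G} (hy : y ∈ zpowers σ) (hz : z ∈ zpowers σ) : y * z = z * y := by
  obtain ⟨i, rfl⟩ := hy
  obtain ⟨j, rfl⟩ := hz
  exact (Commute.refl σ).zpow_zpow i j

theorem eq_tau_mul (y : G) : y = τ * (τ * y) := by rw [← mul_assoc, D.ττ, one_mul]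

theorem refl_sq {y : G} (hy : τ * y ∈ zpowers σ) : y * y = 1 := by
  rw [D.eq_tau_mul y,
    show τ * (τ * y) * (τ * (τ * y)) = τ * (τ * y) * τ * (τ * y) by group,
    D.inverts hy, inv_mul_cancel]

theorem refl_conj {y z : G} (hy : τ * y ∈ zpowers σ) (hz : z ∈ zpowers σ) :
    y * z * y⁻¹ = z⁻¹ := by
  rw [inv_eq_of_mul_eq_one_right (D.refl_sq hy)]
  calc y * z * y = τ * (τ * y) * z * (τ * (τ * y)) := by rw [← D.eq_tau_mul y]
    _ = τ * ((τ * y) * z) * τ * (τ * y) := by group
    _ = z⁻¹ := by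
      rw [D.inverts (mul_mem hy hz), _root_.mul_inv_rev, inv_mul_cancel_right]

theorem conj_cases {y z : G} (hy : y ∈ P) (hz : z ∈ zpowers σ) :
    y * z * y⁻¹ = z ∨ y * z * y⁻¹ = z⁻¹ := by
  rcases D.decomp y hy with h | h
  · left
    rw [D.commute_zpowers h hz, mul_inv_cancel_right]
  · exact Or.inr (D.refl_conj h hz)

theorem mem_of_sq_ne {y : G} (hy : y ∈ P) (h2 : y * y ≠ 1) : y ∈ zpowers σ :=
  (D.decomp y hy).resolve_right fun h => h2 (D.refl_sq h)

theorem mem_of_commute {y z : G} (hy : y ∈ P) (hz : z ∈ zpowers σ)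
    (h2 : z * z ≠ 1) (hc : y * z = z * y) : y ∈ zpowers σ := by
  refine (D.decomp y hy).resolve_right fun h => h2 ?_
  have h' := D.refl_conj h hz
  rw [hc, mul_inv_cancel_right] at h'
  exact mul_eq_one_iff_eq_inv.2 h'

theorem jj : σ ^ q * σ ^ q = 1 := by rw [← pow_add, ← two_mul, D.pow_two_q]

theorem j_ne : σ ^ q ≠ 1 := fun h => by
  have := Nat.le_of_dvd D.q_pos (orderOf_dvd_of_pow_eq_one h)
  rw [D.orderσ] at this
  have := D.q_pos
  omega

theorem orderOf_j : orderOf (σ ^ q) = 2 :=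
  orderOf_eq_prime (by rw [pow_two, D.jj]) D.j_ne

theorem j_central {y : G} (hy : y ∈ P) : y * σ ^ q = σ ^ q * y := by
  rcases D.conj_cases hy (pow_mem (mem_zpowers σ) q) with h | h
  · exact mul_inv_eq_iff_eq_mul.1 h
  · rw [inv_eq_of_mul_eq_one_right D.jj] at h
    exact mul_inv_eq_iff_eq_mul.1 h

theorem sq_eq_one_iff {z : G} (hz : z ∈ zpowers σ) : z * z = 1 ↔ z = 1 ∨ z = σ ^ q := by
  constructor
  · intro h
    obtain ⟨i, rfl⟩ := mem_zpowers_iff.1 hz
    rw [← zpow_add] at h
    have hd := orderOf_dvd_iff_zpow_eq_one.2 h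
    rw [D.orderσ] at hd
    push_cast at hd
    rw [← two_mul] at hd
    obtain ⟨c, hc⟩ := (mul_dvd_mul_iff_left (two_ne_zero' ℤ)).1 hd
    subst hc
    rw [zpow_mul, zpow_natCast]
    rcases Int.even_or_odd c with ⟨d, rfl⟩ | ⟨d, rfl⟩
    · left
      rw [← two_mul, zpow_mul, zpow_two, D.jj, one_zpow]
    · right
      rw [zpow_add, zpow_one, zpow_mul, zpow_two, D.jj, one_zpow, one_mul]
  · rintro (rfl | rfl)
    exacts [one_mul 1, D.jj]

theorem eq_pow_of_mem [Finite G] {z : G} (hz : z ∈ zpowers σ) :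
    ∃ l < 2 * q, z = σ ^ l := by
  obtain ⟨k, rfl⟩ := mem_powers_iff_mem_zpowers.2 hz
  exact ⟨k % (2 * q), Nat.mod_lt _ (by have := D.q_pos; omega), by
    rw [← D.orderσ, pow_mod_orderOf]⟩

/-- The central involution is a power of every non-trivial rotation. -/
theorem j_mem_zpowers [Finite G] {y : G} (hy : y ∈ zpowers σ) (hy1 : y ≠ 1) :
    σ ^ q ∈ zpowers y := by
  obtain ⟨k, hk⟩ : ∃ k, orderOf y = 2 ^ k := by
    obtain ⟨e, he⟩ := D.isPow
    have h : orderOf y ∣ 2 ^ (e + 1) := by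
      rw [pow_succ', ← he, ← D.orderσ]
      exact orderOf_dvd_of_mem_zpowers hy
    obtain ⟨k, -, hk⟩ := (Nat.dvd_prime_pow Nat.prime_two).1 h
    exact ⟨k, hk⟩
  rcases k with _ | k
  · exact absurd (orderOf_eq_one_iff.1 (by rw [hk, pow_zero])) hy1
  have h2 : orderOf (y ^ 2 ^ k) = 2 := by
    rw [orderOf_pow_of_dvd (by positivity) (by rw [hk]; exact ⟨2, by rw [pow_succ]⟩), hk,
      pow_succ, Nat.mul_div_cancel_left _ (by positivity)]
  have h3 : y ^ 2 ^ k = 1 ∨ y ^ 2 ^ k = σ ^ q := (D.sq_eq_one_iff (pow_mem hy _)).1 (by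
    rw [← pow_two]
    have h4 := pow_orderOf_eq_one (y ^ 2 ^ k)
    rwa [h2] at h4)
  rcases h3 with h3 | h3
  · rw [h3, orderOf_one] at h2; norm_num at h2
  · exact h3 ▸ pow_mem (mem_zpowers y) _

/-- An element of odd order acting on a subgroup of `P` and fixing a non-trivial element of it
centralises that subgroup. -/
theorem commute_of_odd [Finite G] {x : G} (hx : Odd (orderOf x)) {Q : Subgroup G} (hQ : Q ≤ P)
    (hn : ∀ y ∈ Q, x * y * x⁻¹ ∈ Q) {u : G} (hu : u ∈ Q) (hu1 : u ≠ 1) (hxu : x * u = u * x) :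
    ∀ y ∈ Q, x * y = y * x := by
  classical
  have hxx : x ∈ zpowers (x ^ 2) := by
    obtain ⟨m, hm⟩ := exists_pow_eq_self_of_coprime (x := x)
      (Nat.coprime_two_left.2 hx)
    exact ⟨(m : ℤ), by simpa using hm⟩
  have key : ∀ {t : G}, x ^ 2 * t = t * x ^ 2 → x * t = t * x := fun {t} h => by
    obtain ⟨i, hi⟩ := mem_zpowers_iff.1 hxx
    have := (show Commute (x ^ 2) t from h).zpow_left i
    rwa [hi] at this
  by_cases hcase : ∀ y ∈ Q, y * y = 1
  · -- elementary abelian case
    have hcomm : ∀ a ∈ Q, ∀ b ∈ Q, a * b = b * a := by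
      intro a ha b hb
      have h1 := hcase _ (mul_mem ha hb)
      have ha' : a⁻¹ = a := inv_eq_of_mul_eq_one_right (hcase a ha)
      have hb' : b⁻¹ = b := inv_eq_of_mul_eq_one_right (hcase b hb)
      calc a * b = (a * b)⁻¹ := (inv_eq_of_mul_eq_one_right h1).symm
        _ = b * a := by rw [_root_.mul_inv_rev, ha', hb']
    have h3 : ∀ a ∈ Q, ∀ b ∈ Q, a ≠ 1 → a ≠ u → b ≠ 1 → b ≠ u → b = a ∨ b = u * a := by
      intro a ha b hb ha1 hau hb1 hbu
      have hrot : ∀ y ∈ Q, y ∈ zpowers σ → y = 1 ∨ y = σ ^ q := fun y hy hy' =>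
        (D.sq_eq_one_iff hy').1 (hcase y hy)
      have hprod : ∀ {a b : G}, a ∈ P → b ∈ P → a ∉ zpowers σ → b ∉ zpowers σ →
          a * b ∈ zpowers σ := fun {a b} ha hb hna hnb => by
        have h1 := (D.decomp a ha).resolve_left hna
        have h2 := (D.decomp b hb).resolve_left hnb
        have := mul_mem (inv_mem h1) h2
        rwa [_root_.mul_inv_rev, mul_assoc, inv_mul_cancel_left,
          inv_eq_of_mul_eq_one_right (D.refl_sq h1)] at this
      have hsq := hcase u hu
      by_cases hru : u ∈ zpowers σ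
      · have huj : u = σ ^ q := (hrot u hu hru).resolve_left hu1
        have hna : a ∉ zpowers σ := fun h => hau
          (((hrot a ha h).resolve_left ha1).trans huj.symm)
        have hnb : b ∉ zpowers σ := fun h => hbu
          (((hrot b hb h).resolve_left hb1).trans huj.symm)
        rcases hrot _ (mul_mem hb ha) (hprod (hQ hb) (hQ ha) hnb hna) with h | h
        · exact Or.inl ((mul_eq_one_iff_eq_inv.1 h).trans
            (inv_eq_of_mul_eq_one_right (hcase a ha)))
        · right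
          rw [huj, ← h, mul_assoc, hcase a ha, mul_one]
      · have hcl : ∀ c ∈ Q, c ≠ 1 → c ≠ u → c = σ ^ q ∨ c = u * σ ^ q := by
          intro c hc hc1 hcu
          by_cases hrc : c ∈ zpowers σ
          · exact Or.inl ((hrot c hc hrc).resolve_left hc1)
          · rcases hrot _ (mul_mem hu hc) (hprod (hQ hu) (hQ hc) hru hrc) with h | h
            · exact absurd ((mul_eq_one_iff_inv_eq.1 h).symm.trans
                (inv_eq_of_mul_eq_one_right hsq)) hcu
            · right
              rw [← h, ← mul_assoc, hsq, one_mul]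
        rcases hcl a ha ha1 hau with e1 | e1 <;> rcases hcl b hb hb1 hbu with e2 | e2
        · exact Or.inl (e2.trans e1.symm)
        · exact Or.inr (by rw [e2, e1])
        · exact Or.inr (by rw [e1, e2, ← mul_assoc, hsq, one_mul])
        · exact Or.inl (e2.trans e1.symm)
    intro t ht
    by_cases ht1 : t = 1
    · subst ht1; simp
    by_cases htu : t = u
    · subst htu; exact hxu
    have hfix : x * u * x⁻¹ = u := mul_inv_eq_iff_eq_mul.2 hxu
    rcases h3 t ht _ (hn t ht) ht1 htu (fun h => ht1 (conj_eq_one_iff.1 h))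
      (fun h => htu (by rw [← hfix] at h; exact mul_left_cancel (mul_right_cancel h))) with h | h
    · exact mul_inv_eq_iff_eq_mul.1 h
    · refine key (mul_inv_eq_iff_eq_mul.1 ?_)
      calc x ^ 2 * t * (x ^ 2)⁻¹ = x * (x * t * x⁻¹) * x⁻¹ := by rw [pow_two]; group
        _ = (x * u * x⁻¹) * (x * t * x⁻¹) := by (conv_lhs => rw [h]); group
        _ = t := by rw [hfix, h, ← mul_assoc, hcase u hu, one_mul]
  · -- a rotation of order at least four
    push Not at hcase
    obtain ⟨y₀, hy₀, hy₀2⟩ := hcase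
    have hrotfix : ∀ r ∈ Q, r * r ≠ 1 → x * r = r * x := by
      intro r hr hr2
      have hrσ := D.mem_of_sq_ne (hQ hr) hr2
      have hxrσ : x * r * x⁻¹ ∈ zpowers σ := D.mem_of_sq_ne (hQ (hn r hr)) (fun h => hr2 (by
        rw [show x * r * x⁻¹ * (x * r * x⁻¹) = x * (r * r) * x⁻¹ by group, conj_eq_one_iff] at h
        exact h))
      have hle : zpowers (x * r * x⁻¹) = zpowers r :=
        zpowers_eq_of_orderOf hxrσ hrσ ((MulAut.conj x).orderOf_eq r)
      have hxN : x ∈ normalizer ((zpowers r : Subgroup G) : Set G) := by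
        have hmap : (zpowers r).map (MulAut.conj x).toMonoidHom = zpowers r := by
          rw [MonoidHom.map_zpowers]; exact hle
        rw [mem_normalizer_iff]
        intro w
        conv_rhs => rw [← hmap]
        constructor
        · exact fun hw => ⟨w, hw, rfl⟩
        · rintro ⟨v, hv, hvw⟩
          rwa [← (MulAut.conj x).injective (show MulAut.conj x v = MulAut.conj x w from hvw)]
      set φ := (zpowers r).normalizerMonoidHom
      have h1 : φ ⟨x, hxN⟩ = 1 := by
        rw [← orderOf_eq_one_iff]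
        obtain ⟨k, hk⟩ : ∃ k, orderOf r = 2 ^ (k + 1) := by
          obtain ⟨e, he⟩ := D.isPow
          have h : orderOf r ∣ 2 ^ (e + 1) := by
            rw [pow_succ', ← he, ← D.orderσ]
            exact orderOf_dvd_of_mem_zpowers hrσ
          obtain ⟨k, -, hk⟩ := (Nat.dvd_prime_pow Nat.prime_two).1 h
          rcases k with _ | k
          · rw [pow_zero, orderOf_eq_one_iff] at hk
            exact absurd (by rw [hk, one_mul]) hr2
          · exact ⟨k, hk⟩
        have hcard : Nat.card (MulAut (zpowers r)) = 2 ^ k := by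
          rw [IsCyclic.card_mulAut, Nat.card_zpowers, hk,
            Nat.totient_prime_pow Nat.prime_two (Nat.succ_pos k)]
          simp
        refine Nat.eq_one_of_dvd_coprimes (a := orderOf x) (b := 2 ^ k)
          (Nat.Coprime.pow_right k (Nat.coprime_two_right.2 hx)) ?_
          (hcard ▸ orderOf_dvd_natCard _)
        rw [← Subgroup.orderOf_mk x hxN]
        exact orderOf_map_dvd φ _
      have h2 := congrArg (fun a : MulAut (zpowers r) => ((a ⟨r, mem_zpowers r⟩ : zpowers r) : G)) h1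
      exact mul_inv_eq_iff_eq_mul.1 h2
    have hy₀σ := D.mem_of_sq_ne (hQ hy₀) hy₀2
    have hy₀1 : y₀ ≠ 1 := fun h => hy₀2 (by rw [h, one_mul])
    have hrot : ∀ r ∈ Q, r ∈ zpowers σ → x * r = r * x := by
      intro r hr hrσ
      by_cases hr2 : r * r = 1
      · rcases (D.sq_eq_one_iff hrσ).1 hr2 with rfl | rfl
        · simp
        · obtain ⟨i, hi⟩ := mem_zpowers_iff.1 (D.j_mem_zpowers hy₀σ hy₀1)
          rw [← hi]
          exact ((show Commute x y₀ from hrotfix y₀ hy₀ hy₀2).zpow_right i).eq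
      · exact hrotfix r hr hr2
    intro t ht
    by_cases htσ : t ∈ zpowers σ
    · exact hrot t ht htσ
    have hts := (D.decomp t (hQ ht)).resolve_left htσ
    have ht' : x * t * x⁻¹ ∉ zpowers σ := fun hm => htσ (by
      have h := mul_inv_eq_iff_eq_mul.2 (hrot _ (hn t ht) hm)
      have h' : x * t * x⁻¹ = t := mul_left_cancel (mul_right_cancel h)
      rwa [← h'])
    have hts' := (D.decomp _ (hQ (hn t ht))).resolve_left ht'
    set r := t⁻¹ * (x * t * x⁻¹) with hr
    have hrQ : r ∈ Q := mul_mem (inv_mem ht) (hn t ht)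
    have hrσ : r ∈ zpowers σ := by
      have h := mul_mem (inv_mem hts) hts'
      rwa [_root_.mul_inv_rev, mul_assoc, inv_mul_cancel_left] at h
    have hfix : x * r * x⁻¹ = r := mul_inv_eq_iff_eq_mul.2 (hrot r hrQ hrσ)
    have hiter : ∀ k : ℕ, x ^ k * t * (x ^ k)⁻¹ = t * r ^ k := by
      intro k
      induction k with
      | zero => simp
      | succ k ih =>
        rw [pow_succ', _root_.mul_inv_rev, show x * x ^ k * t * ((x ^ k)⁻¹ * x⁻¹) =
          x * (x ^ k * t * (x ^ k)⁻¹) * x⁻¹ by group, ih,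
          show x * (t * r ^ k) * x⁻¹ = (x * t * x⁻¹) * (x * r * x⁻¹) ^ k by rw [conj_pow]; group,
          hfix, show x * t * x⁻¹ = t * r by rw [hr, mul_inv_cancel_left], pow_succ', mul_assoc]
    have h1 : r ^ orderOf x = 1 := by
      have h := hiter (orderOf x)
      rw [pow_orderOf_eq_one, one_mul, inv_one, mul_one] at h
      exact left_eq_mul.1 h
    have h2 : r ^ (2 * q) = 1 := orderOf_dvd_iff_pow_eq_one.1
      (D.orderσ ▸ orderOf_dvd_of_mem_zpowers hrσ)
    have hcop : (orderOf x).Coprime (2 * q) := by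
      obtain ⟨e, he⟩ := D.isPow
      rw [he, ← pow_succ']
      exact Nat.Coprime.pow_right _ (Nat.coprime_two_right.2 hx)
    have h3 : r = 1 := orderOf_eq_one_iff.1 (Nat.eq_one_of_dvd_coprimes hcop
      (orderOf_dvd_of_pow_eq_one h1) (orderOf_dvd_of_pow_eq_one h2))
    refine mul_inv_eq_iff_eq_mul.1 ?_
    rw [show x * t * x⁻¹ = t * r by rw [hr, mul_inv_cancel_left], h3, mul_one]

end Dih

end Cfsg.Agent.Lib.DihedralDefect
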