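import Cfsg.Agent.Lib.DihedralDefect.Group
import Cfsg.Agent.Lib.NilBlock.Main
import Mathlib

/-!
# The local block at the central involution of a dihedral defect group
-/

set_option autoImplicit false
set_option linter.unusedSectionVars false

namespace Cfsg.Agent.Lib.DihedralDefect

open Cfsg
open Cfsg.Agent.Lib
open Cfsg.Agent.Lib.BrauerPairs
open Subgroup (zpowers mem_zpowers)

universe u

variable {G : Type u} [Group G]

/-- The centraliser of `z`, as the centraliser of the subgroup it generates. -/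
abbrev cent (z : G) : Subgroup G := Subgroup.centralizer (zpowers z : Set G)

/-- The data at the central involution. -/
structure Ctx (M : Ideal AlgInt) (B : Set (IrrCharacter G)) (z : G)
    (f : Set (IrrCharacter (cent z))) (b' : BrauerPairIdx (cent z)) (s t : cent z) (q : ℕ) :
    Prop where
  z_eq : ((s ^ q : cent z) : G) = z
  ind : IsInducedBlock M (cent z) f B
  maj : blockDefect 2 f = blockDefect 2 B
  max : IsMaximalBrauerPair 2 M f b'.1 b'.2
  nil : IsNilpotentBlock 2 M f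
  dih : Dih b'.1 s t q

theorem mem_cent {z c : G} : c ∈ cent z ↔ c * z = z * c := by
  rw [cent, centralizer_zpowers, Subgroup.mem_centralizer_singleton_iff]

variable [Finite G] {M : Ideal AlgInt} [M.IsPrime] {B : Set (IrrCharacter G)} {b : BrauerPairIdx G}

theorem isNilpotent_local (hM : IsPModular 2 M) (hmax : IsMaximalBrauerPair 2 M B b.1 b.2)
    {σ τ : G} {q : ℕ} (D : Dih b.1 σ τ q) {u : G} (hu1 : u ≠ 1)
    {f : Set (IrrCharacter (cent u))} (haB : IsBrauerPairOf 2 M B (zpowers u) f) :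
    IsNilpotentBlock 2 M f := by
  refine ⟨haB.1.2, fun R g hg x hxN _ hreg => ?_⟩
  set R' := zpowers u ⊔ R.map (cent u).subtype with hR'
  have hn := normalSubpair_of_local hM haB.1 hg
  have hB' := (BrauerMap.isBrauerPairOf_iff_of_subpairLE hM
    (show SubpairLE 2 M (zpowers u) f R' _ from Relation.ReflTransGen.single hn) hn.2.1 haB.2.1).2 haB
  obtain ⟨y, hy⟩ := exists_conj_pairLE_max hM hmax
    (b := (⟨R', Chars.irrCongr (centSupEquiv R) '' g⟩ : BrauerPairIdx G)) hB'
  have hle : R'.map (MulAut.conj y).toMonoidHom ≤ b.1 := pairLE_fst_le hy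
  have hxR : R'.map (MulAut.conj (x : G)).toMonoidHom = R' := by
    have h1 : (zpowers u).map (MulAut.conj (x : G)).toMonoidHom = zpowers u :=
      map_conj_eq_iff_mem_normalizer.2 (Subgroup.centralizer_le_normalizer _ x.2)
    rw [hR', Subgroup.map_sup, h1, Subgroup.map_map,
      show (MulAut.conj (x : G)).toMonoidHom.comp (cent u).subtype =
        (cent u).subtype.comp (MulAut.conj x).toMonoidHom from MonoidHom.ext fun y => rfl,
      ← Subgroup.map_map, map_conj_eq_iff_mem_normalizer.2 hxN]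
  have hodd : Odd (orderOf (y * (x : G) * y⁻¹)) := by
    rw [show orderOf (y * (x : G) * y⁻¹) = orderOf (x : G) from (MulAut.conj y).orderOf_eq _,
      Subgroup.orderOf_coe]
    exact Nat.not_even_iff_odd.1 fun h => hreg (even_iff_two_dvd.1 h)
  have huR : u ∈ R' := Subgroup.mem_sup_left (mem_zpowers u)
  have hxu : (x : G) * u = u * x := mem_cent.1 x.2
  have hall := D.commute_of_odd hodd hle (fun w hw => by
    obtain ⟨r, hr, rfl⟩ := hw
    refine ⟨(x : G) * r * (x : G)⁻¹, ?_, ?_⟩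
    · rw [← hxR]
      exact ⟨r, hr, rfl⟩
    · show y * ((x : G) * r * (x : G)⁻¹) * y⁻¹ = y * x * y⁻¹ * (y * r * y⁻¹) * (y * x * y⁻¹)⁻¹
      group) ⟨u, huR, rfl⟩ (fun h => hu1 (conj_eq_one_iff.1 h)) (by
    show y * x * y⁻¹ * (y * u * y⁻¹) = y * u * y⁻¹ * (y * x * y⁻¹)
    rw [show y * (x : G) * y⁻¹ * (y * u * y⁻¹) = y * (x * u) * y⁻¹ by group, hxu]
    group)
  refine Subgroup.mem_centralizer_iff.2 fun r hr => Subtype.ext ?_
  have h := hall _ ⟨(r : G), Subgroup.mem_sup_right ⟨r, hr, rfl⟩, rfl⟩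
  change y * (x : G) * y⁻¹ * (y * r * y⁻¹) = y * r * y⁻¹ * (y * x * y⁻¹) at h
  rw [show y * (x : G) * y⁻¹ * (y * r * y⁻¹) = y * (x * r) * y⁻¹ by group,
    show y * (r : G) * y⁻¹ * (y * x * y⁻¹) = y * (r * x) * y⁻¹ by group] at h
  exact (mul_left_cancel (mul_right_cancel h)).symm

theorem exists_ctx (hM : IsPModular 2 M) (hmax : IsMaximalBrauerPair 2 M B b.1 b.2)
    {σ τ : G} {q : ℕ} (D : Dih b.1 σ τ q) :
    ∃ (f : Set (IrrCharacter (cent (σ ^ q)))) (b' : BrauerPairIdx (cent (σ ^ q)))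
      (s t : cent (σ ^ q)), Ctx M B (σ ^ q) f b' s t q := by
  haveI : Fact (Nat.Prime 2) := ⟨Nat.prime_two⟩
  cases nonempty_fintype G
  set z := σ ^ q with hz
  have hzP : z ∈ b.1 := pow_mem D.σ_mem q
  obtain ⟨⟨Q, f⟩, hQ, ha⟩ := exists_pairLE hM hmax.1.1 (Subgroup.zpowers_le.2 hzP)
  simp only at hQ
  subst hQ
  have haB := (BrauerMap.isBrauerPairOf_iff_of_subpairLE hM ha hmax.1.1 hmax.1.2.1).1 hmax.1
  have hle : b.1 ≤ cent z := fun y hy => mem_cent.2 (D.j_central hy)
  have hdef : IsDefectGroup 2 M f (b.1.subgroupOf (cent z)) := by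
    have h := (isDefectGroup_inf_centralizer_iff hM hmax (a := ⟨zpowers z, f⟩) ha).2 fun x _ =>
      (Subgroup.card_le_of_le inf_le_left).trans
        (Subgroup.card_le_of_le (le_inf le_rfl hle))
    rwa [show b.1 ⊓ Subgroup.centralizer ((⟨zpowers z, f⟩ : BrauerPairIdx G).1 : Set G) = b.1 from
      inf_eq_left.2 hle] at h
  haveI := Fintype.ofFinite (cent z)
  obtain ⟨e, he⟩ := NilBlock.exists_maximal hM haB.1.2 hdef
  have hs : σ ∈ cent z := hle D.σ_mem
  have ht : τ ∈ cent z := hle D.τ_mem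
  refine ⟨f, ⟨b.1.subgroupOf (cent z), e⟩, ⟨σ, hs⟩, ⟨τ, ht⟩, rfl, ?_, ?_, he,
    isNilpotent_local hM hmax D D.j_ne haB, ?_⟩
  · exact NilBlock.isInducedBlock_of_pair hM (a := ⟨zpowers z, f⟩) haB
      (NilBlock.zpowers_le_centralizer z)
  · refine Nat.pow_right_injective (le_refl 2) ?_
    show 2 ^ blockDefect 2 f = 2 ^ blockDefect 2 B
    rw [← BrauerFeit.card_defectGroup hM haB.1.2 hdef,
      ← BrauerFeit.card_defectGroup hM hmax.1.2.1 (isDefectGroup_of_isMaximal hM hmax),
      Nat.card_congr (Subgroup.subgroupOfEquivOfLe hle).toEquiv]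
  · have hmem : ∀ {y : cent z}, y ∈ zpowers (⟨σ, hs⟩ : cent z) ↔ (y : G) ∈ zpowers σ := by
      intro y
      constructor
      · rintro ⟨i, rfl⟩
        exact ⟨i, by simp⟩
      · rintro ⟨i, hi⟩
        exact ⟨i, Subtype.ext (by simpa using hi)⟩
    exact
      { two_le := D.two_le
        isPow := D.isPow
        σ_mem := D.σ_mem
        τ_mem := D.τ_mem
        orderσ := (Subgroup.orderOf_mk σ hs).trans D.orderσ
        ττ := Subtype.ext D.ττ
        rel := Subtype.ext D.rel
        decomp := fun y hy => (D.decomp (y : G) hy).imp hmem.2 hmem.2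
        τ_notMem := fun h => D.τ_notMem (hmem.1 h)
        card := (Nat.card_congr (Subgroup.subgroupOfEquivOfLe hle).toEquiv).trans D.card }

end Cfsg.Agent.Lib.DihedralDefect
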