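import Cfsg.Agent.Lib.DihedralDefect.Core
import Cfsg.Agent.Lib.DihedralDefect.Local
import Cfsg.Agent.Lib.Chars.Induced
import Cfsg.Agent.Lib.Contrib.Family
import Cfsg.Agent.Lib.BrauerPairs.KernelCore
import Mathlib

/-!
# Inducing the class functions on the rotations to the group
-/

set_option autoImplicit false
set_option linter.unusedSectionVars false

namespace Cfsg.Agent.Lib.DihedralDefect

open Finset Cfsg
open Cfsg.Agent.Lib
open Cfsg.Agent.Lib.BrauerPairs
open Cfsg.Agent.Lib.NilBlock (bu bu_fst wt con)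
open scoped ComplexConjugate

universe u

attribute [local instance] Classical.propDecidable

/-- The sum of a class function against the rows, as a sum over a local block. -/
theorem sum_classInner_mul_W {K : Type u} [Group K] [Fintype K] {M : Ideal AlgInt}
    {b : BrauerPairIdx K} {η₀ : IrrCharacter K} {g : K → ℂ} (hg : IsClassFunction K g) (w : K) :
    ∑ η : IrrCharacter K, classInner g (η : K → ℂ) * W M b η₀ η w =
      (Nat.card (b.1 ⊓ Subgroup.centralizer ({w} : Set K) : Subgroup K) : ℂ) *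
        ∑ ξ ∈ (bu 2 M b w).2.toFinset,
          classInner (pRegularPart 2 fun c : Subgroup.centralizer ((bu 2 M b w).1 : Set K) =>
            g (w * (c : K))) (ξ : _ → ℂ) * conj (Contrib.secCoef 2 w η₀ ξ) := by
  simp only [W, wt, con, Contrib.contrib, Finset.mul_sum]
  rw [Finset.sum_comm]
  refine Finset.sum_congr rfl fun ξ _ => ?_
  have hlin : classInner (pRegularPart 2 fun c : Subgroup.centralizer ((bu 2 M b w).1 : Set K) =>
      g (w * (c : K))) (ξ : _ → ℂ) =
      ∑ η : IrrCharacter K, classInner g (η : K → ℂ) * Contrib.secCoef 2 w η ξ := by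
    have hexp : (pRegularPart 2 fun c : Subgroup.centralizer ((bu 2 M b w).1 : Set K) =>
        g (w * (c : K))) = ∑ η : IrrCharacter K, classInner g (η : K → ℂ) •
          pRegularPart 2 fun c : Subgroup.centralizer ((bu 2 M b w).1 : Set K) =>
            (η : K → ℂ) (w * (c : K)) := by
      funext c
      simp only [Finset.sum_apply, Pi.smul_apply, BrauerFeit.pRegularPart_apply, smul_eq_mul]
      split_ifs
      · simp
      · exact Chars.isClassFunction_apply_eq_sum_classInner hg _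
    rw [hexp, Chars.classInner_sum_left]
    exact Finset.sum_congr rfl fun η _ => by rw [Chars.classInner_smul_left]; rfl
  rw [hlin, Finset.sum_mul, Finset.mul_sum]
  exact Finset.sum_congr rfl fun η _ => by ring

section TI

variable {G : Type u} [Group G] [Finite G] {z : G}

/-- The element has `z` among the powers of its 2-part. -/
def InS (z : G) (x : cent z) : Prop := ∃ v : G, IsPPart 2 (x : G) v ∧ z ∈ Subgroup.zpowers v

theorem mem_cent_of_conj (hz : orderOf z = 2) {x y : cent z} (hx : InS z x) (hy : InS z y)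
    {g : G} (hg : g * (x : G) * g⁻¹ = (y : G)) : g ∈ cent z := by
  haveI : Fact (Nat.Prime 2) := ⟨Nat.prime_two⟩
  obtain ⟨v, hv, hzv⟩ := hx
  obtain ⟨v', hv', hzv'⟩ := hy
  have h := Blocks.isPPart_unique (hg ▸ Blocks.isPPart_conj hv g) hv'
  have hm : g * z * g⁻¹ ∈ Subgroup.zpowers v' := by
    rw [← h]
    obtain ⟨i, rfl⟩ := hzv
    exact ⟨i, conj_zpow⟩
  have he := zpowers_eq_of_orderOf hm hzv' ((MulAut.conj g).orderOf_eq z)
  have hmem : g * z * g⁻¹ ∈ Subgroup.zpowers z := he ▸ Subgroup.mem_zpowers _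
  obtain ⟨k, hk⟩ := mem_powers_iff_mem_zpowers.2 hmem
  change z ^ k = g * z * g⁻¹ at hk
  have hz2 : z ^ 2 = 1 := hz ▸ pow_orderOf_eq_one z
  rw [← pow_mod_orderOf, hz] at hk
  rw [mem_cent]
  rcases Nat.mod_two_eq_zero_or_one k with e | e <;> rw [e] at hk
  · rw [pow_zero, eq_comm, conj_eq_one_iff] at hk
    rw [hk, orderOf_one] at hz
    norm_num at hz
  · rw [pow_one, eq_comm] at hk
    exact mul_inv_eq_iff_eq_mul.1 hk

variable [Fintype G]

theorem indFun_eq (hz : orderOf z = 2) {φ : cent z → ℂ} (hφ : IsClassFunction (cent z) φ)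
    (hφS : ∀ x, φ x ≠ 0 → InS z x) {x : cent z} (hx : InS z x) :
    indFun (cent z) φ (x : G) = φ x := by
  haveI := Fintype.ofFinite (cent z)
  have key : ∀ y : G, extendByZero (cent z) φ (y⁻¹ * (x : G) * y) =
      if y ∈ cent z then φ x else 0 := by
    intro y
    split_ifs with hy
    · rw [Chars.extendByZero_of_mem _ (mul_mem (mul_mem (inv_mem hy) x.2) hy)]
      exact Chars.isClassFunction_apply_eq hφ (isConj_iff.2 ⟨⟨y, hy⟩⁻¹, Subtype.ext (by simp)⟩)
    · by_contra h0
      have hm : y⁻¹ * (x : G) * y ∈ cent z := by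
        by_contra hm
        exact h0 (Chars.extendByZero_of_not_mem _ hm)
      rw [Chars.extendByZero_of_mem _ hm] at h0
      exact hy (by simpa using inv_mem (mem_cent_of_conj hz hx (hφS _ h0) (g := y⁻¹) (by simp)))
  simp only [indFun, key]
  rw [← Finset.sum_filter, Finset.sum_const, nsmul_eq_mul, ← Fintype.card_subtype,
    Fintype.card_eq_nat_card]
  exact inv_mul_cancel_left₀ Chars.natCard_ne_zero _

theorem exists_of_indFun_ne {φ : cent z → ℂ} {g : G} (h : indFun (cent z) φ g ≠ 0) :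
    ∃ (y : G) (hy : y⁻¹ * g * y ∈ cent z), φ ⟨_, hy⟩ ≠ 0 := by
  obtain ⟨y, -, hy⟩ := Finset.exists_ne_zero_of_sum_ne_zero (right_ne_zero_of_mul h)
  have hm : y⁻¹ * g * y ∈ cent z := by
    by_contra hm
    exact hy (Chars.extendByZero_of_not_mem _ hm)
  rw [Chars.extendByZero_of_mem _ hm] at hy
  exact ⟨y, hm, hy⟩

theorem indFun_regular (hz : orderOf z = 2) {φ : cent z → ℂ} (hφS : ∀ x, φ x ≠ 0 → InS z x)
    {g : G} (hg : ¬ 2 ∣ orderOf g) : indFun (cent z) φ g = 0 := by
  by_contra h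
  obtain ⟨y, hy, hne⟩ := exists_of_indFun_ne h
  obtain ⟨v, hv, hzv⟩ := hφS _ hne
  have hv1 : v = 1 := Blocks.isPPart_unique hv (Blocks.isPPart_one_of_pRegular (by
    show ¬ 2 ∣ orderOf (y⁻¹ * g * y)
    rwa [show y⁻¹ * g * y = MulAut.conj y⁻¹ g by simp, MulEquiv.orderOf_eq]))
  rw [hv1, Subgroup.zpowers_one_eq_bot, Subgroup.mem_bot] at hzv
  rw [hzv, orderOf_one] at hz
  norm_num at hz

theorem classInner_indFun [Fintype (cent z)] (hz : orderOf z = 2) {φ ψ : cent z → ℂ}
    (hψ : IsClassFunction (cent z) ψ) (hφS : ∀ x, φ x ≠ 0 → InS z x)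
    (hψS : ∀ x, ψ x ≠ 0 → InS z x) :
    classInner (indFun (cent z) φ) (indFun (cent z) ψ) = classInner φ ψ := by
  rw [Chars.classInner_indFun_left _ _ _ (Chars.isClassFunction_indFun _ _)]
  simp only [classInner]
  congr 1
  refine Finset.sum_congr rfl fun x _ => ?_
  by_cases h : φ x = 0
  · rw [h, zero_mul, zero_mul]
  · rw [indFun_eq hz hψ hψS (hφS x h)]

end TI

section Columns

variable {G : Type u} [Group G] [Fintype G] {M : Ideal AlgInt} [M.IsPrime]
  {B : Set (IrrCharacter G)} {z : G} [Fintype (cent z)] {f : Set (IrrCharacter (cent z))}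
  {b' : BrauerPairIdx (cent z)} {s t : cent z} {q : ℕ} {η₀ : IrrCharacter (cent z)}

/-- The column function of a character. -/
noncomputable def col (M : Ideal AlgInt) (b' : BrauerPairIdx (cent z)) (η₀ : IrrCharacter (cent z))
    (χ : IrrCharacter G) (w : cent z) : ℂ :=
  ∑ η : IrrCharacter (cent z),
    classInner (fun c : cent z => (χ : G → ℂ) c) (η : cent z → ℂ) * W M b' η₀ η w

/-- The class function with values `F` on the rotations. -/
noncomputable def phi (M : Ideal AlgInt) [M.IsPrime] (b' : BrauerPairIdx (cent z)) (s : cent z)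
    (q : ℕ) (η₀ : IrrCharacter (cent z)) (F : ℕ → ℂ) : cent z → ℂ :=
  starθ M b' η₀ (rotFun b' s q F)

variable (hM : IsPModular 2 M) (C : Ctx M B z f b' s t q) (hη : η₀ ∈ f)
  (h0 : blockHeight 2 f (η₀ : cent z → ℂ) = 0)

include hM C hη h0

theorem nilDih : NilDih M f b' s t q η₀ := ⟨hM, C.max, C.nil, C.dih, hη, h0⟩

theorem orderOf_z : orderOf z = 2 := by
  rw [← C.z_eq, Subgroup.orderOf_coe, C.dih.orderOf_j]

theorem z_mem_zpowers {w : cent z} (hw : w ∈ Subgroup.zpowers s) (hw1 : w ≠ 1) :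
    z ∈ Subgroup.zpowers (w : G) := by
  obtain ⟨i, hi⟩ := Subgroup.mem_zpowers_iff.1 (C.dih.j_mem_zpowers hw hw1)
  exact ⟨i, by show ((w : G)) ^ i = z; rw [← Subgroup.coe_zpow, hi, C.z_eq]⟩

theorem inS_of_ne {F : ℕ → ℂ} (x : cent z) (h : phi M b' s q η₀ F x ≠ 0) : InS z x := by
  haveI : Fact (Nat.Prime 2) := ⟨Nat.prime_two⟩
  have N := nilDih hM C hη h0
  obtain ⟨v, hv⟩ := Blocks.exists_isPPart (p := 2) x
  obtain ⟨g, w, hw, hgw⟩ := N.exists_conj_of_ne hv h
  obtain ⟨l, hl, hwl, -⟩ := N.exists_of_rotFun_ne hw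
  refine ⟨(v : G), ?_, ?_⟩
  · obtain ⟨y, hy, hc, ⟨k, hk⟩, hy'⟩ := hv
    exact ⟨(y : G), congrArg Subtype.val hy, congrArg Subtype.val hc.eq,
      ⟨k, by rw [Subgroup.orderOf_coe, hk]⟩, by rwa [Subgroup.orderOf_coe]⟩
  · have hmem : z ∈ Subgroup.zpowers (((w : b'.1) : cent z) : G) :=
      z_mem_zpowers hM C hη h0 (hwl ▸ pow_mem (Subgroup.mem_zpowers s) l)
        (hwl ▸ N.pow_ne_one hl)
    obtain ⟨i, hi⟩ := hmem
    refine ⟨i, ?_⟩
    show ((v : G)) ^ i = z
    rw [← hgw, Subgroup.coe_mul, Subgroup.coe_mul, Subgroup.coe_inv, conj_zpow,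
      show (((w : b'.1) : cent z) : G) ^ i = z from hi, mem_cent.1 g.2, mul_inv_cancel_right]

theorem conj_mult (χ : IrrCharacter G) (η : IrrCharacter (cent z)) :
    conj (classInner (fun c : cent z => (χ : G → ℂ) c) (η : cent z → ℂ)) =
      classInner (fun c : cent z => (χ : G → ℂ) c) (η : cent z → ℂ) := by
  obtain ⟨n, hn⟩ := Chars.isCharacter_classInner_nat
    (Chars.isCharacter_restrict (cent z) (Chars.irr_isCharacter χ)) (Chars.irr_isCharacter η)
  rw [hn, Complex.conj_natCast]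

theorem conj_col (χ : IrrCharacter G) (l : ℕ) :
    conj (col M b' η₀ χ (s ^ l)) = col M b' η₀ χ (s ^ l) := by
  simp only [col, map_sum, map_mul, conj_mult hM C hη h0, (nilDih hM C hη h0).real_rot]

theorem col_symm (χ : IrrCharacter G) {l : ℕ} (hl : l ≤ 2 * q) :
    col M b' η₀ χ (s ^ (2 * q - l)) = col M b' η₀ χ (s ^ l) := by
  simp only [col, (nilDih hM C hη h0).W_symm _ hl]

theorem exists_int_col (χ : IrrCharacter G) {ζ : ℂ} (hζ : ζ ^ (2 * q) = 1) :
    ∃ n : ℤ, ∑ l ∈ Finset.range (2 * q), col M b' η₀ χ (s ^ l) * (ζ ^ l - 1) =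
      (2 * q : ℂ) * n := by
  choose m hm using fun η : IrrCharacter (cent z) => Chars.isCharacter_classInner_nat
    (Chars.isCharacter_restrict (cent z) (Chars.irr_isCharacter χ)) (Chars.irr_isCharacter η)
  choose n hn using fun η : IrrCharacter (cent z) => (nilDih hM C hη h0).exists_int_coord η hζ
  refine ⟨∑ η, (m η : ℤ) * n η, ?_⟩
  simp only [col, Finset.sum_mul]
  rw [Finset.sum_comm]
  push_cast
  rw [Finset.mul_sum]
  refine Finset.sum_congr rfl fun η _ => ?_
  rw [hm η, mul_left_comm, ← hn η, Finset.mul_sum]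
  exact Finset.sum_congr rfl fun l _ => mul_assoc _ _ _

theorem classInner_res_phi (χ : IrrCharacter G) {F : ℕ → ℂ}
    (hF : ∀ l ∈ Finset.Ioo 0 (2 * q), F (2 * q - l) = F l)
    (hFr : ∀ l ∈ Finset.Ioo 0 (2 * q), conj (F l) = F l) :
    classInner (fun c : cent z => (χ : G → ℂ) c) (phi M b' s q η₀ F) =
      (4 * q : ℂ)⁻¹ * ∑ l ∈ Finset.Ioo 0 (2 * q), F l * col M b' η₀ χ (s ^ l) := by
  have N := nilDih hM C hη h0
  rw [phi, Chars.classInner_eq_sum_mul_conj
    (Chars.isClassFunction_of_isCharacter (Chars.isCharacter_restrict _ (Chars.irr_isCharacter χ)))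
    (N.isClassFunction_starθ (N.isClassFunction_rotFun hF))]
  simp only [col, Finset.mul_sum]
  rw [Finset.sum_comm]
  refine Finset.sum_congr rfl fun η _ => ?_
  rw [N.classInner_star_rot hF, map_mul, map_inv₀, map_sum, Finset.mul_sum, Finset.mul_sum]
  refine Finset.sum_congr rfl fun l hl => ?_
  simp only [map_mul, map_ofNat, Complex.conj_natCast, hFr l hl, N.real_rot]
  ring

theorem col_eq_zero {χ : IrrCharacter G} (hχ : χ ∉ B) {w : cent z} (hw : w ∈ b'.1)
    (hzw : z ∈ Subgroup.zpowers (w : G)) : col M b' η₀ χ w = 0 := by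
  haveI : Fact (Nat.Prime 2) := ⟨Nat.prime_two⟩
  rw [col, sum_classInner_mul_W
    (Chars.isClassFunction_of_isCharacter (Chars.isCharacter_restrict _ (Chars.irr_isCharacter χ))),
    Finset.sum_eq_zero, mul_zero]
  intro ξ hξ
  refine mul_eq_zero_of_left ?_ _
  have hQ : (bu 2 M b' w).1.map (cent z).subtype = Subgroup.zpowers (w : G) := by
    rw [bu_fst, MonoidHom.map_zpowers]
    rfl
  have hC : Subgroup.centralizer (Subgroup.zpowers (w : G) : Set G) ≤ cent z :=
    BrauerMap.centralizer_anti (Subgroup.zpowers_le.2 hzw)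
  have hpush := KernelCore.isBrauerPairOf_push hQ hC hM C.ind
    (NilBlock.isBrauerPairOf_bu hM C.max hw)
  obtain ⟨k, hk⟩ := NilBlock.exists_orderOf_eq hM C.max hw
  have h := NilBlock.secCoef_eq_zero hM (v := (w : G)) ⟨k, by rw [Subgroup.orderOf_coe, hk]⟩
    (a := KernelCore.pushPair hQ hC (bu 2 M b' w).2) rfl hpush hχ
    (ξ := Chars.irrCongr (KernelCore.centEquivSub hQ hC) ξ) ⟨ξ, Set.mem_toFinset.1 hξ, rfl⟩
  refine Eq.trans ?_ h
  simp only [Contrib.secCoef, classInner]
  rw [← Nat.card_congr (KernelCore.centEquivSub hQ hC).toEquiv]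
  congr 1
  refine (Fintype.sum_equiv (KernelCore.centEquivSub hQ hC).toEquiv _ _ fun c => ?_).symm
  simp only [MulEquiv.toEquiv_eq_coe, EquivLike.coe_coe, BrauerMap.irrCongr_apply,
    BrauerFeit.pRegularPart_apply, MulEquiv.orderOf_eq]
  refine congrArg (· * _) ?_
  exact (BrauerFeit.pRegularPart_apply 2 _ c).trans rfl

theorem res_phi_eq_zero {χ : IrrCharacter G} (hχ : χ ∉ B) {F : ℕ → ℂ}
    (hF : ∀ l ∈ Finset.Ioo 0 (2 * q), F (2 * q - l) = F l)
    (hFr : ∀ l ∈ Finset.Ioo 0 (2 * q), conj (F l) = F l) :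
    classInner (fun c : cent z => (χ : G → ℂ) c) (phi M b' s q η₀ F) = 0 := by
  rw [classInner_res_phi hM C hη h0 χ hF hFr, Finset.sum_eq_zero, mul_zero]
  intro l hl
  have N := nilDih hM C hη h0
  rw [col_eq_zero hM C hη h0 hχ (N.pow_mem_b l) (z_mem_zpowers hM C hη h0
    (pow_mem (Subgroup.mem_zpowers s) l) (N.pow_ne_one hl)), mul_zero]

/-- The isometry, seen on the characters of the block. -/
theorem sum_res_phi {F F' : ℕ → ℂ} (hF : ∀ l ∈ Finset.Ioo 0 (2 * q), F (2 * q - l) = F l)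
    (hFr : ∀ l ∈ Finset.Ioo 0 (2 * q), conj (F l) = F l)
    (hF' : ∀ l ∈ Finset.Ioo 0 (2 * q), F' (2 * q - l) = F' l)
    (hFr' : ∀ l ∈ Finset.Ioo 0 (2 * q), conj (F' l) = F' l) :
    ∑ χ ∈ B.toFinset, conj (classInner (fun c : cent z => (χ : G → ℂ) c) (phi M b' s q η₀ F)) *
        classInner (fun c : cent z => (χ : G → ℂ) c) (phi M b' s q η₀ F') =
      (4 * q : ℂ)⁻¹ * ∑ l ∈ Finset.Ioo 0 (2 * q), F l * F' l := by
  have N := nilDih hM C hη h0
  have hcl := fun {F : ℕ → ℂ} (hF : ∀ l ∈ Finset.Ioo 0 (2 * q), F (2 * q - l) = F l) =>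
    N.isClassFunction_starθ (N.isClassFunction_rotFun hF)
  have key : classInner (indFun (cent z) (phi M b' s q η₀ F))
      (indFun (cent z) (phi M b' s q η₀ F')) =
      classInner (phi M b' s q η₀ F) (phi M b' s q η₀ F') :=
    classInner_indFun (orderOf_z hM C hη h0) (hcl hF') (fun x => inS_of_ne hM C hη h0 x)
      (fun x => inS_of_ne hM C hη h0 x)
  rw [Chars.classInner_eq_sum_mul_conj (Chars.isClassFunction_indFun _ _)
    (Chars.isClassFunction_indFun _ _), phi, phi, N.parseval (N.isClassFunction_rotFun hF)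
    (N.isClassFunction_rotFun hF'), N.classInner_rotFun] at key
  rw [Finset.sum_congr rfl (g := fun l => F l * conj (F' l)) fun l hl => by rw [hFr' l hl], ← key,
    ← Finset.sum_subset (Finset.subset_univ B.toFinset) (fun χ _ hχ => by
      rw [Chars.classInner_indFun_left _ _ _ (Chars.irr_isClassFunction χ),
        ← Chars.conj_classInner, ← phi,
        res_phi_eq_zero hM C hη h0 (by simpa using hχ) hF hFr, map_zero, zero_mul])]
  refine Finset.sum_congr rfl fun χ _ => ?_
  rw [Chars.classInner_indFun_left _ _ _ (Chars.irr_isClassFunction χ),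
    Chars.classInner_indFun_left _ _ _ (Chars.irr_isClassFunction χ), Chars.conj_classInner,
    Chars.conj_classInner, phi, phi]

/-- The induced functions in terms of the columns. -/
theorem indFun_phi {F : ℕ → ℂ} (hF : ∀ l ∈ Finset.Ioo 0 (2 * q), F (2 * q - l) = F l)
    (hFr : ∀ l ∈ Finset.Ioo 0 (2 * q), conj (F l) = F l) (g : G) :
    indFun (cent z) (phi M b' s q η₀ F) g = ∑ χ ∈ B.toFinset,
      ((4 * q : ℂ)⁻¹ * ∑ l ∈ Finset.Ioo 0 (2 * q), F l * col M b' η₀ χ (s ^ l)) *
        (χ : G → ℂ) g := by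
  rw [Chars.isClassFunction_apply_eq_sum_classInner (Chars.isClassFunction_indFun _ _) g]
  have hval : ∀ χ : IrrCharacter G, classInner (indFun (cent z) (phi M b' s q η₀ F)) (χ : G → ℂ) =
      (4 * q : ℂ)⁻¹ * ∑ l ∈ Finset.Ioo 0 (2 * q), F l * col M b' η₀ χ (s ^ l) := by
    intro χ
    rw [Chars.classInner_indFun_left _ _ _ (Chars.irr_isClassFunction χ), ← Chars.conj_classInner,
      classInner_res_phi hM C hη h0 χ hF hFr, map_mul, map_inv₀, map_mul, map_ofNat,
      Complex.conj_natCast, map_sum]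
    congr 1
    exact Finset.sum_congr rfl fun l hl => by rw [map_mul, hFr l hl, conj_col hM C hη h0]
  simp only [hval]
  refine (Finset.sum_subset (Finset.subset_univ _) fun χ _ hχ => ?_).symm
  rw [← classInner_res_phi hM C hη h0 χ hF hFr,
    res_phi_eq_zero hM C hη h0 (by simpa using hχ) hF hFr, zero_mul]

/-- The orthogonality of the columns. -/
theorem sum_col {l l' : ℕ} (hl : l ∈ Finset.Ioo 0 (2 * q)) (hl' : l' ∈ Finset.Ioo 0 (2 * q)) :
    ∑ χ ∈ B.toFinset, col M b' η₀ χ (s ^ l) * col M b' η₀ χ (s ^ l') =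
      (2 * q : ℂ) * ((if l' = l then 1 else 0) + (if l' = 2 * q - l then 1 else 0)) := by
  have hq : (q : ℂ) ≠ 0 := Nat.cast_ne_zero.2 C.dih.q_pos.ne'
  set δ : ℕ → ℕ → ℂ := fun a k => (if k = a then 1 else 0) + (if k = 2 * q - a then 1 else 0)
    with hδ
  have hsym : ∀ a ∈ Finset.Ioo 0 (2 * q), ∀ k ∈ Finset.Ioo 0 (2 * q),
      δ a (2 * q - k) = δ a k := by
    intro a ha k hk
    rw [Finset.mem_Ioo] at ha hk
    simp only [hδ]
    rw [add_comm]
    congr 1 <;> refine if_congr ?_ rfl rfl <;> omega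
  have hreal : ∀ a, ∀ k ∈ Finset.Ioo 0 (2 * q), conj (δ a k) = δ a k := fun a k _ => by
    simp only [hδ, map_add, apply_ite conj, map_one, map_zero]
  have hsum : ∀ a ∈ Finset.Ioo 0 (2 * q), ∀ g : ℕ → ℂ,
      ∑ k ∈ Finset.Ioo 0 (2 * q), δ a k * g k = g a + g (2 * q - a) := by
    intro a ha g
    have ha' := Finset.mem_Ioo.1 ha
    simp only [hδ, add_mul, Finset.sum_add_distrib, ite_mul, one_mul, zero_mul, Finset.sum_ite_eq',
      ha, if_true, show 2 * q - a ∈ Finset.Ioo 0 (2 * q) from Finset.mem_Ioo.2 ⟨by omega, by omega⟩]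
  have h := sum_res_phi hM C hη h0 (hsym l hl) (hreal l) (hsym l' hl') (hreal l')
  rw [hsum l hl] at h
  have hval : ∀ a ∈ Finset.Ioo 0 (2 * q), ∀ χ : IrrCharacter G,
      classInner (fun c : cent z => (χ : G → ℂ) c) (phi M b' s q η₀ (δ a)) =
        (2 * q : ℂ)⁻¹ * col M b' η₀ χ (s ^ a) := fun a ha χ => by
    rw [classInner_res_phi hM C hη h0 χ (hsym a ha) (hreal a), hsum a ha,
      col_symm hM C hη h0 χ (Finset.mem_Ioo.1 ha).2.le]
    field_simp
    ring
  rw [Finset.sum_congr rfl fun χ _ => by rw [hval l hl χ, hval l' hl' χ]] at h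
  simp only [map_mul, map_inv₀, map_ofNat, Complex.conj_natCast, conj_col hM C hη h0] at h
  have hl'' := Finset.mem_Ioo.1 hl
  have hl''' := Finset.mem_Ioo.1 hl'
  have e : δ l' l + δ l' (2 * q - l) =
      2 * ((if l' = l then 1 else 0) + (if l' = 2 * q - l then 1 else 0)) := by
    rw [hsym l' hl' l hl, ← two_mul]
    simp only [hδ]
    congr 2 <;> refine if_congr ?_ rfl rfl <;> omega
  rw [e, Finset.sum_congr rfl fun χ _ => mul_mul_mul_comm _ (col M b' η₀ χ (s ^ l)) _ _,
    ← Finset.mul_sum] at h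
  field_simp at h ⊢
  linear_combination h / 4

theorem sum_col_regular {l : ℕ} (hl : l ∈ Finset.Ioo 0 (2 * q)) {ρ : G} (hρ : ¬ 2 ∣ orderOf ρ) :
    ∑ χ ∈ B.toFinset, col M b' η₀ χ (s ^ l) * (χ : G → ℂ) ρ = 0 := by
  have hl' := Finset.mem_Ioo.1 hl
  have hq : (q : ℂ) ≠ 0 := Nat.cast_ne_zero.2 C.dih.q_pos.ne'
  set δ : ℕ → ℂ := fun k => (if k = l then 1 else 0) + (if k = 2 * q - l then 1 else 0) with hδ
  have hsym : ∀ k ∈ Finset.Ioo 0 (2 * q), δ (2 * q - k) = δ k := by
    intro k hk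
    rw [Finset.mem_Ioo] at hk
    simp only [hδ]
    rw [add_comm]
    congr 1 <;> refine if_congr ?_ rfl rfl <;> omega
  have hreal : ∀ k ∈ Finset.Ioo 0 (2 * q), conj (δ k) = δ k := fun k _ => by
    simp only [hδ, map_add, apply_ite conj, map_one, map_zero]
  have h := indFun_phi hM C hη h0 hsym hreal ρ
  rw [indFun_regular (orderOf_z hM C hη h0) (fun x => inS_of_ne hM C hη h0 x) hρ] at h
  have hterm : ∀ χ : IrrCharacter G, ∑ k ∈ Finset.Ioo 0 (2 * q), δ k * col M b' η₀ χ (s ^ k) =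
      2 * col M b' η₀ χ (s ^ l) := fun χ => by
    simp only [hδ, add_mul, Finset.sum_add_distrib, ite_mul, one_mul, zero_mul, Finset.sum_ite_eq',
      hl, if_true, show 2 * q - l ∈ Finset.Ioo 0 (2 * q) from Finset.mem_Ioo.2 ⟨by omega, by omega⟩,
      col_symm hM C hη h0 χ hl'.2.le]
    ring
  simp only [hterm, mul_assoc, ← Finset.mul_sum] at h
  simpa [hq] using h.symm

/-- The form of the major subsection. -/
theorem major_form (χ ψ : IrrCharacter G) :
    (2 : ℂ) ^ blockDefect 2 f * Contrib.contrib 2 z f χ ψ =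
      col M b' η₀ χ (s ^ q) * col M b' η₀ ψ (s ^ q) := by
  haveI : Fact (Nat.Prime 2) := ⟨Nat.prime_two⟩
  have N := nilDih hM C hη h0
  have hC : cent z = Subgroup.centralizer ({z} : Set G) := centralizer_zpowers z
  obtain ⟨Nm, -, hN, -, -, -⟩ := Contrib.exists_intMatrix hM C.nil.1
  have hsq : Contrib.secElt hC = s ^ q := Subtype.ext C.z_eq.symm
  rw [show (2 : ℂ) = ((2 : ℕ) : ℂ) by norm_num, Contrib.pow_mul_contrib hM hC C.nil.1 hN,
    ← conj_col hM C hη h0 ψ q]
  simp only [col]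
  rw [map_sum, Finset.sum_mul_sum]
  symm
  rw [← Finset.sum_subset (Finset.subset_univ f.toFinset) (fun η _ hη => Finset.sum_eq_zero
    fun η' _ => by rw [N.W_eq_zero (by simpa using hη) (N.pow_mem_b q), mul_zero, zero_mul])]
  refine Finset.sum_congr rfl fun η hη => ?_
  rw [← Finset.sum_subset (Finset.subset_univ f.toFinset) (fun η' _ hη' => by
    rw [N.W_eq_zero (η := η') (by simpa using hη') (N.pow_mem_b q), mul_zero, map_zero, mul_zero])]
  refine Finset.sum_congr rfl fun η' _ => ?_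
  have hmul := N.W_mul (N.pow_mem_b q) η η'
  rw [NilBlock.wt_of_mem_center hM C.max (N.pow_mem_b q) (hsq ▸ Contrib.secElt_mem_center hC)
    (Set.mem_toFinset.1 hη)] at hmul
  rw [map_mul, Contrib.secMult, Contrib.secMult, Contrib.secScalar, Contrib.secScalar, hsq,
    hN η (Set.mem_toFinset.1 hη) η', map_mul]
  rw [mul_mul_mul_comm _ (W M b' η₀ η (s ^ q)), ← hmul, NilBlock.card_eq hM C.max]
  push_cast
  ring

theorem exists_parity :
    (∀ χ ∈ B, col M b' η₀ χ (s ^ q) ≠ 0) ∧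
    (∀ χ ∈ B, blockHeight 2 B (χ : G → ℂ) = 0 →
      ¬ MemLocalIdeal M (col M b' η₀ χ (s ^ q) * col M b' η₀ χ (s ^ q))) ∧
    (∀ χ ∈ B, blockHeight 2 B (χ : G → ℂ) ≠ 0 →
      MemLocalIdeal M (col M b' η₀ χ (s ^ q) * col M b' η₀ χ (s ^ q))) := by
  haveI : Fact (Nat.Prime 2) := ⟨Nat.prime_two⟩
  have hC : cent z = Subgroup.centralizer ({z} : Set G) := centralizer_zpowers z
  have hz : orderOf z = 2 ^ 1 := by rw [orderOf_z hM C hη h0, pow_one]
  obtain ⟨F, lam, -, hF, -, -, -, hlR, hlU, hlam⟩ := Contrib.exists_family hM hz hC C.ind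
  obtain ⟨hVI, hne⟩ := Contrib.major_facts hM hz hC C.ind C.maj hF hlR hlU hlam
  have hFc : ∀ χ ψ, F χ ψ 1 = col M b' η₀ χ (s ^ q) * col M b' η₀ ψ (s ^ q) := fun χ ψ => by
    rw [hF χ ψ 1 (by norm_num), pow_one, ← major_form hM C hη h0]
    norm_num
  obtain ⟨ψ₀, hψ₀, h00⟩ := Blocks.exists_height_zero (p := 2) C.ind.2.1
  refine ⟨fun χ hχ h => hne χ hχ ψ₀ hψ₀ h00 (by rw [hFc, h, zero_mul]),
    fun χ hχ h h' => ?_, fun χ hχ h => ?_⟩
  · have hV : ¬ MemLocalIdeal M (Contrib.blockVal 2 f fun c : cent z => (χ : G → ℂ) c) := by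
      have key : ∀ (C' : Subgroup G) [Fintype C'] (e : Set (IrrCharacter C')),
          C' = Subgroup.centralizer ({z} : Set G) → IsInducedBlock M C' e B →
          ¬ MemLocalIdeal M (Contrib.blockVal 2 e fun c : C' => (χ : G → ℂ) c) := by
        rintro C' _ e rfl he
        exact Contrib.blockVal_subsection hM ⟨1, hz⟩ he hχ h
      exact key _ f hC C.ind
    have hVR := Contrib.memLocalRing_blockVal hM f
      (Chars.isCharacter_restrict (cent z) (Chars.irr_isCharacter χ))
    refine Blocks.not_memLocalIdeal_mul (Blocks.mem_localRing.1 (mul_mem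
      (Blocks.mem_localRing.2 hlR) (Blocks.mem_localRing.2 hVR))) hVR
      (Blocks.not_memLocalIdeal_mul hlR hVR hlU hV) hV ?_
    rw [← hFc] at h'
    simpa using Blocks.memLocalIdeal_sub h' (hlam χ χ)
  · have hVR := Contrib.memLocalRing_blockVal hM f
      (Chars.isCharacter_restrict (cent z) (Chars.irr_isCharacter χ))
    have h1 := Blocks.memLocalIdeal_add (hlam χ χ) (Blocks.memLocalIdeal_mul_left
      (Blocks.mem_localRing.1 (mul_mem (Blocks.mem_localRing.2 hlR) (Blocks.mem_localRing.2 hVR)))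
      (hVI χ hχ h))
    rwa [sub_add_cancel, hFc] at h1

/-- The regular part and the rotations share the norm of a character. -/
theorem reg_add_le (χ : IrrCharacter G) :
    (BrauerFeit.regCoef 2 χ χ).re +
      ((4 * q : ℂ)⁻¹ * ∑ l ∈ Finset.Ioo 0 (2 * q),
        col M b' η₀ χ (s ^ l) * col M b' η₀ χ (s ^ l)).re ≤ 1 := by
  set F : ℕ → ℂ := fun l => col M b' η₀ χ (s ^ l) with hFdef
  have hF : ∀ l ∈ Finset.Ioo 0 (2 * q), F (2 * q - l) = F l := fun l hl =>
    col_symm hM C hη h0 χ (Finset.mem_Ioo.1 hl).2.le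
  have hFr : ∀ l ∈ Finset.Ioo 0 (2 * q), conj (F l) = F l := fun l _ => conj_col hM C hη h0 χ l
  set T := (4 * q : ℂ)⁻¹ * ∑ l ∈ Finset.Ioo 0 (2 * q), F l * F l with hT
  set P := pRegularPart 2 (χ : G → ℂ) with hP
  set Ψ := indFun (cent z) (phi M b' s q η₀ F) with hΨ
  have hz := orderOf_z hM C hη h0
  have hPΨ : classInner P Ψ = 0 := by
    rw [classInner, Finset.sum_eq_zero, mul_zero]
    intro g _
    rw [hP, BrauerFeit.pRegularPart_apply]
    split_ifs with hg
    · rw [zero_mul]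
    · rw [hΨ, indFun_regular hz (fun x => inS_of_ne hM C hη h0 x) hg, map_zero, mul_zero]
  have hΨP : classInner Ψ P = 0 := by rw [← Chars.conj_classInner, hPΨ, map_zero]
  have hχΨ : classInner (χ : G → ℂ) Ψ = T := by
    rw [hΨ, Chars.classInner_indFun_right _ _ _ (Chars.irr_isClassFunction χ),
      classInner_res_phi hM C hη h0 χ hF hFr]
  have hTc : conj T = T := by
    simp only [hT, map_mul, map_inv₀, map_ofNat, Complex.conj_natCast, map_sum]
    congr 1
    exact Finset.sum_congr rfl fun l hl => by rw [hFr l hl]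
  have hΨχ : classInner Ψ (χ : G → ℂ) = T := by rw [← Chars.conj_classInner, hχΨ, hTc]
  have hΨΨ : classInner Ψ Ψ = T := by
    have N := nilDih hM C hη h0
    have key : classInner Ψ Ψ =
        classInner (phi M b' s q η₀ F) (phi M b' s q η₀ F) :=
      classInner_indFun hz (N.isClassFunction_starθ (N.isClassFunction_rotFun hF))
        (fun x => inS_of_ne hM C hη h0 x) (fun x => inS_of_ne hM C hη h0 x)
    rw [key, phi,
      N.parseval (N.isClassFunction_rotFun hF) (N.isClassFunction_rotFun hF), N.classInner_rotFun]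
    rw [hT]
    congr 1
    exact Finset.sum_congr rfl fun l hl => by rw [hFr l hl]
  have hPχ : classInner P (χ : G → ℂ) = BrauerFeit.regCoef 2 χ χ := rfl
  have hχP : classInner (χ : G → ℂ) P = BrauerFeit.regCoef 2 χ χ := by
    rw [← Chars.conj_classInner, hPχ, BrauerFeit.conj_regCoef]
  have hPP : classInner P P = BrauerFeit.regCoef 2 χ χ :=
    BrauerFeit.classInner_pRegularPart_pRegularPart 2 χ χ
  have hnn : 0 ≤ (classInner ((χ : G → ℂ) - P - Ψ) ((χ : G → ℂ) - P - Ψ)).re := by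
    simp only [classInner, Complex.mul_conj]
    rw [show (Nat.card G : ℂ)⁻¹ = (((Nat.card G : ℝ)⁻¹ : ℝ) : ℂ) by push_cast; ring,
      Complex.re_ofReal_mul, Complex.re_sum]
    exact mul_nonneg (inv_nonneg.2 (Nat.cast_nonneg _))
      (Finset.sum_nonneg fun g _ => by rw [Complex.ofReal_re]; exact Complex.normSq_nonneg _)
  simp only [Chars.classInner_sub_left, Chars.classInner_sub_right, Chars.classInner_irr_self,
    hPΨ, hΨP, hχΨ, hΨχ, hΨΨ, hPχ, hχP, hPP, sub_zero, zero_sub] at hnn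
  simp only [Complex.sub_re, Complex.one_re, Complex.neg_re] at hnn
  show (BrauerFeit.regCoef 2 χ χ).re + T.re ≤ 1
  linarith

end Columns

end Cfsg.Agent.Lib.DihedralDefect
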