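import Cfsg.Agent.Lib.DihedralDefect.Table
import Cfsg.Agent.Lib.DihedralDefect.Combinatorics
import Cfsg.Agent.Lib.DihedralDefect.Congruence
import Cfsg.Agent.Lib.KleinBlock.Columns
import Mathlib

/-!
# The invariants of a 2-block with dihedral defect group
-/

set_option autoImplicit false
set_option linter.unusedSectionVars false

namespace Cfsg.Agent.Lib.DihedralDefect

open Finset Cfsg
open Cfsg.Agent.Lib
open Cfsg.Agent.Lib.BrauerPairs
open scoped ComplexConjugate

universe u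

attribute [local instance] Classical.propDecidable

variable {G : Type u} [Group G] [Fintype G] {M : Ideal AlgInt} [M.IsPrime]

/-- A bound for the rank from independent vectors killed on the regular elements. -/
theorem blockRank_le_sub {B : Set (IrrCharacter G)} {q : ℕ} (a : Fin q → IrrCharacter G → ℂ)
    (hind : ∀ c : Fin q → ℂ, (∀ χ ∈ B, ∑ i, c i * a i χ = 0) → c = 0)
    (hreg : ∀ i, ∀ x : G, ¬ 2 ∣ orderOf x → ∑ χ ∈ B.toFinset, a i χ * (χ : G → ℂ) x = 0) :
    blockRank 2 B + q ≤ B.toFinset.card := by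
  let v : ↥B.toFinset → G → ℂ := fun φ => pRegularPart 2 ((φ : IrrCharacter G) : G → ℂ)
  let L : (↥B.toFinset → ℂ) →ₗ[ℂ] (G → ℂ) := Fintype.linearCombination ℂ v
  have hrange : Module.finrank ℂ (LinearMap.range L) = blockRank 2 B := by
    have hr : Set.range v = (fun φ : IrrCharacter G => pRegularPart 2 (φ : G → ℂ)) '' B := by
      ext g
      constructor
      · rintro ⟨φ, rfl⟩
        exact ⟨φ, Set.mem_toFinset.1 φ.2, rfl⟩
      · rintro ⟨φ, hφ, rfl⟩
        exact ⟨⟨φ, Set.mem_toFinset.2 hφ⟩, rfl⟩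
    rw [blockRank, show LinearMap.range L = Submodule.span ℂ (Set.range v) from
      Fintype.range_linearCombination ℂ v, hr]
  let d : Fin q → ↥B.toFinset → ℂ := fun i φ => a i φ
  have hli : LinearIndependent ℂ d := by
    rw [Fintype.linearIndependent_iff]
    intro c hc i
    refine congrFun (hind c fun χ hχ => ?_) i
    simpa [d] using congrFun hc ⟨χ, Set.mem_toFinset.2 hχ⟩
  have hmem : ∀ i, d i ∈ LinearMap.ker L := fun i => LinearMap.mem_ker.2 (funext fun g => by
    simp only [L, Fintype.linearCombination_apply, Finset.sum_apply, Pi.smul_apply, smul_eq_mul,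
      v, d, BrauerFeit.pRegularPart_apply, Pi.zero_apply]
    by_cases h : 2 ∣ orderOf g
    · simp [h]
    · simp only [if_neg h]
      rw [Finset.sum_coe_sort B.toFinset (fun φ => a i φ * (φ : G → ℂ) g)]
      exact hreg i g h)
  have hker : q ≤ Module.finrank ℂ (LinearMap.ker L) := by
    have hli' : LinearIndependent ℂ fun i => (⟨d i, hmem i⟩ : LinearMap.ker L) :=
      LinearIndependent.of_comp (LinearMap.ker L).subtype hli
    simpa using hli'.fintype_card_le_finrank
  have h := LinearMap.finrank_range_add_finrank_ker L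
  rw [hrange, Module.finrank_fintype_fun_eq_card, Fintype.card_coe] at h
  omega

/-- Vectors with the Gram matrix of the coordinates are independent. -/
theorem coords_independent {I : Type u} (T : Finset I) (A : I → ℕ → ℤ) {q : ℕ} (hq : 0 < q)
    (hgram : ∀ j ∈ Finset.Icc 1 q, ∀ k ∈ Finset.Icc 1 q,
      ∑ χ ∈ T, A χ j * A χ k = 2 + if j = k then (if j = q then 2 else 1) else 0)
    (c : Fin q → ℂ) (hc : ∀ χ ∈ T, ∑ i, c i * (A χ (i + 1) : ℂ) = 0) : c = 0 := by
  have hI : ∀ i : Fin q, (i : ℕ) + 1 ∈ Finset.Icc 1 q := fun i =>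
    Finset.mem_Icc.2 ⟨by omega, i.2⟩
  set S := ∑ i, c i with hS
  have hk : ∀ k : Fin q, 2 * S + c k * (if (k : ℕ) + 1 = q then 2 else 1) = 0 := by
    intro k
    calc 2 * S + c k * (if (k : ℕ) + 1 = q then 2 else 1)
        = ∑ i, c i * ((∑ χ ∈ T, A χ (i + 1) * A χ (k + 1) : ℤ) : ℂ) := by
          rw [Finset.sum_congr rfl fun i _ => by rw [hgram _ (hI i) _ (hI k)]]
          push_cast
          simp only [mul_add, Finset.sum_add_distrib, mul_ite, mul_zero, mul_one,
            add_left_inj, Fin.val_inj, Finset.sum_ite_eq', Finset.mem_univ, if_true,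
            ← Finset.sum_mul]
          rw [hS]
          ring
      _ = ∑ χ ∈ T, (∑ i, c i * (A χ (i + 1) : ℂ)) * (A χ (k + 1) : ℂ) := by
          push_cast
          simp only [Finset.mul_sum, Finset.sum_mul]
          rw [Finset.sum_comm]
          exact Finset.sum_congr rfl fun χ _ => Finset.sum_congr rfl fun i _ => by ring
      _ = 0 := Finset.sum_eq_zero fun χ hχ => by rw [hc χ hχ, zero_mul]
  have hval : ∀ k : Fin q, c k = -2 * S + (if (k : ℕ) + 1 = q then S else 0) := by
    intro k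
    have h := hk k
    split_ifs at h ⊢ with hkq
    · linear_combination h / 2
    · linear_combination h
  have hS0 : S = 0 := by
    have h : S = ∑ k : Fin q, (-2 * S + (if (k : ℕ) + 1 = q then S else 0)) := by
      rw [hS]
      exact Finset.sum_congr rfl fun k _ => hval k
    rw [Finset.sum_add_distrib, Finset.sum_const, Finset.card_univ, Fintype.card_fin,
      nsmul_eq_mul, Finset.sum_eq_single (⟨q - 1, by omega⟩ : Fin q) (fun k _ hne => if_neg
        fun h => hne (Fin.ext (by simp only; omega))) (fun h => absurd (Finset.mem_univ _) h),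
      if_pos (by simp only; omega)] at h
    have hq' : (q : ℂ) ≠ 0 := Nat.cast_ne_zero.2 hq.ne'
    exact (mul_eq_zero.1 (show (q : ℂ) * S = 0 by linear_combination h / 2)).resolve_left hq'
  funext k
  rw [hval k, hS0]
  simp

/-- Brauer's theorem on blocks with dihedral defect groups. -/
theorem invariants (hM : IsPModular 2 M) {B : Set (IrrCharacter G)} {b : BrauerPairIdx G}
    (hmax : IsMaximalBrauerPair 2 M B b.1 b.2) {σ τ : G} {q : ℕ} (D : Dih b.1 σ τ q) :
    Nat.card B = q + 3 ∧ 1 ≤ blockRank 2 B ∧ blockRank 2 B ≤ 3 ∧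
      Nat.card {χ : IrrCharacter G // χ ∈ B ∧ blockHeight 2 B (χ : G → ℂ) = 0} = 4 ∧
      ∀ χ ∈ B, blockHeight 2 B (χ : G → ℂ) ≤ 1 := by
  haveI : Fact (Nat.Prime 2) := ⟨Nat.prime_two⟩
  have hB : IsPBlock M B := hmax.1.2.1
  obtain ⟨f, b', s, t, C⟩ := exists_ctx hM hmax D
  haveI := Fintype.ofFinite (cent (σ ^ q))
  obtain ⟨η₀, hη, h0⟩ := Blocks.exists_height_zero (p := 2) C.nil.1
  have hqp := D.q_pos
  have hq2 := D.two_le
  have hqe : Even q := even_iff_two_dvd.2 D.even_q
  have hζ := Complex.isPrimitiveRoot_exp (2 * q) (by omega)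
  set ζ := Complex.exp (2 * Real.pi * Complex.I / ((2 * q : ℕ) : ℂ)) with hζdef
  set T := B.toFinset with hT
  set c : IrrCharacter G → ℕ → ℂ := fun χ l => col M b' η₀ χ (s ^ l) with hc
  obtain ⟨A, hrec, hA, hgram⟩ := exists_coords T c q hq2 hζ
    (fun χ l hl => col_symm hM C hη h0 χ hl)
    (fun χ ξ hξ => exists_int_col hM C hη h0 χ hξ) (fun l hl l' hl' => sum_col hM C hη h0 hl hl')
  obtain ⟨hne, hpar0, hpar1⟩ := exists_parity hM C hη h0
  have hqI : q ∈ Finset.Ioo 0 (2 * q) := Finset.mem_Ioo.2 ⟨hqp, by omega⟩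
  have hzq : ζ ^ q = -1 := by
    have h1 : ζ ^ q * ζ ^ q = 1 := by rw [← pow_add, ← two_mul, hζ.pow_eq_one]
    exact (mul_self_eq_one_iff.1 h1).resolve_left fun h => by
      have := Nat.le_of_dvd hqp ((hζ.pow_eq_one_iff_dvd q).1 h); omega
  set w : IrrCharacter G → ℤ := fun χ =>
    A χ q + 2 * ∑ i ∈ Finset.Icc 1 (q - 1), A χ i * (-1) ^ i with hw
  have hcw : ∀ χ, col M b' η₀ χ (s ^ q) = (w χ : ℂ) := by
    intro χ
    refine (hrec χ q hqI).trans ?_
    rw [hqe.neg_one_pow, mul_one, hw]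
    push_cast
    rw [Finset.mul_sum]
    congr 1
    refine Finset.sum_congr rfl fun i _ => ?_
    rw [mul_comm i q, pow_mul, hzq, ← inv_pow, show (-1 : ℂ)⁻¹ = -1 by norm_num]
    ring
  have hwodd : ∀ χ, Odd (w χ) ↔ Odd (A χ q) := fun χ => by
    simp only [hw, Int.odd_add, even_two_mul, iff_true]
  have hheight : ∀ χ ∈ B, Odd (A χ q) ↔ blockHeight 2 B (χ : G → ℂ) = 0 := by
    intro χ hχ
    have hmem : MemLocalIdeal M (col M b' η₀ χ (s ^ q) * col M b' η₀ χ (s ^ q)) ↔ ¬ Odd (w χ) := by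
      rw [hcw, ← Int.cast_mul, Blocks.memLocalIdeal_intCast_iff hM, Nat.cast_ofNat,
        ← even_iff_two_dvd, Int.not_odd_iff_even, Int.even_mul, or_self]
    rw [← hwodd]
    refine ⟨fun h => by_contra fun hh => hmem.1 (hpar1 χ hχ hh) h, fun h => ?_⟩
    by_contra h'
    exact hpar0 χ hχ h (hmem.2 h')
  have hdeg : ∀ χ : IrrCharacter G,
      ((charDegree (χ : G → ℂ) : ℂ) = (χ : G → ℂ) 1) ∧ charDegree (χ : G → ℂ) ≠ 0 :=
    fun χ => Blocks.HeightZero.charDegree_eq χ
  have hreg : ∀ x : G, ¬ 2 ∣ orderOf x → ∀ j, ∑ χ ∈ T, (A χ j : ℂ) * (χ : G → ℂ) x = 0 :=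
    fun x hx j => sum_coords_eq_zero T c q hqp hA
      (fun l hl => sum_col_regular hM C hη h0 hl hx) j
  have hodd : ∃ χ ∈ T, Odd (A χ q) := by
    obtain ⟨χ, hχ, h⟩ := Blocks.exists_height_zero (p := 2) hB
    exact ⟨χ, Set.mem_toFinset.2 hχ, (hheight χ hχ).2 h⟩
  have hsupp : ∀ χ ∈ T, ∃ j ∈ Finset.Icc 1 q, A χ j ≠ 0 := by
    intro χ hχ
    by_contra! h
    refine hne χ (Set.mem_toFinset.1 hχ) ?_
    rw [hcw, hw]
    simp only
    rw [h q (Finset.mem_Icc.2 ⟨hqp, le_rfl⟩), Finset.sum_eq_zero fun i hi => by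
      rw [h i (by simp only [Finset.mem_Icc] at hi ⊢; omega), zero_mul]]
    simp
  have hrel : ∀ j ∈ Finset.Icc 1 q, ∑ χ ∈ T, A χ j * (charDegree (χ : G → ℂ) : ℤ) = 0 := by
    intro j _
    have h := hreg 1 (by simp) j
    simp only [← (hdeg _).1] at h
    exact_mod_cast h
  rcases shape T A (fun χ => charDegree (χ : G → ℂ)) q hq2 hqe
      (fun χ _ => Nat.pos_of_ne_zero (hdeg χ).2) hgram hodd hsupp hrel with
    ⟨hcard, hfour, hrow⟩ | ⟨hq4, hbad⟩
  swap
  · -- the exceptional configuration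
    subst hq4
    refine (not_bad hM C hη h0 ?_).elim
    obtain ⟨p, hp, hpodd, σ', hσ', hval⟩ := hbad
    refine ⟨p, Set.mem_toFinset.1 hp, (hheight p (Set.mem_toFinset.1 hp)).1 hpodd, σ', hσ', ?_⟩
    have h2 : ζ ^ 2 * ζ ^ 2 = -1 := by rw [← pow_add]; exact hzq
    have hne0 : ζ ≠ 0 := hζ.ne_zero (by norm_num)
    have hinv : ∀ k m : ℕ, k + m = 8 → (ζ ^ k)⁻¹ = ζ ^ m := fun k m hkm => by
      refine inv_eq_of_mul_eq_one_right ?_
      rw [← pow_add, hkm]
      exact hζ.pow_eq_one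
    have hz4 : ζ ^ 4 = -1 := hzq
    set r := ζ - ζ ^ 3 with hr
    have hr2 : r ^ 2 = 2 := by
      rw [hr]
      linear_combination (ζ ^ 2 - 2) * hz4
    have hIcc : Finset.Icc 1 (4 - 1) = {1, 2, 3} := by decide
    rw [← hval r hr2]
    congr 1
    refine Finset.sum_congr rfl fun χ _ => ?_
    have h1 : col M b' η₀ χ s = -(A χ 4 : ℂ) + r * ((A χ 1 : ℂ) - A χ 3) := by
      have h := hrec χ 1 (by decide)
      simp only [hc, pow_one, mul_one, hIcc] at h
      rw [Finset.sum_insert (by decide), Finset.sum_insert (by decide), Finset.sum_singleton,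
        hinv 1 7 rfl, hinv 2 6 rfl, hinv 3 5 rfl] at h
      rw [h, hr]
      linear_combination ((A χ 1 : ℂ) * ζ ^ 3 + (A χ 2 : ℂ) * ζ ^ 2 + (A χ 3 : ℂ) * ζ) * hz4
    have h2' : col M b' η₀ χ (s ^ 2) = (A χ 4 : ℂ) - 2 * A χ 2 := by
      have h := hrec χ 2 (by decide)
      simp only [hc, hIcc] at h
      rw [Finset.sum_insert (by decide), Finset.sum_insert (by decide), Finset.sum_singleton,
        show 1 * 2 = 2 from rfl, show 2 * 2 = 4 from rfl, show 3 * 2 = 6 from rfl,
        hinv 2 6 rfl, hinv 4 4 rfl, hinv 6 2 rfl, neg_one_sq, mul_one] at h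
      rw [h]
      linear_combination ((A χ 1 : ℂ) * ζ ^ 2 + 2 * (A χ 2 : ℂ) + (A χ 3 : ℂ) * ζ ^ 2) * hz4
    rw [h1, h2']
  have hk : T.card = q + 3 := hcard
  refine ⟨?_, KleinBlock.blockRank_pos (M := M) Nat.prime_two hB, ?_, ?_, ?_⟩
  · rw [Nat.card_coe_set_eq, Set.ncard_eq_toFinset_card', ← hk]
  · have h := blockRank_le_sub (B := B) (q := q) (fun i χ => (A χ ((i : ℕ) + 1) : ℂ))
      (fun c hc => coords_independent T A hqp hgram c fun χ hχ => hc χ (Set.mem_toFinset.1 hχ))
      (fun i x hx => hreg x hx _)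
    rw [← hT, hk] at h
    omega
  · rw [Nat.card_eq_fintype_card, Fintype.card_subtype, ← hfour]
    congr 1
    ext χ
    simp only [Finset.mem_filter, Finset.mem_univ, true_and, hT, Set.mem_toFinset]
    exact ⟨fun h => ⟨h.1, (hheight χ h.1).2 h.2⟩, fun h => ⟨h.1, (hheight χ h.1).1 h.2⟩⟩
  · intro χ hχ
    by_contra hbig
    push Not at hbig
    have hpos : blockHeight 2 B (χ : G → ℂ) ≠ 0 := by omega
    have hev : ¬ Odd (A χ q) := fun h => hpos ((hheight χ hχ).1 h)
    obtain ⟨j, hj, hsgn, hzero⟩ := hrow χ (Set.mem_toFinset.2 hχ) hev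
    have hj' := Finset.mem_Icc.1 hj
    have hAq : A χ q = 0 := hzero q (Finset.mem_Icc.2 ⟨hqp, le_rfl⟩) (by omega)
    have hval : ∀ l ∈ Finset.Ioo 0 (2 * q), c χ l * c χ l =
        2 + (ζ ^ (2 * j)) ^ l + (ζ ^ (2 * q - 2 * j)) ^ l := by
      intro l hl
      rw [hrec χ l hl, hAq, Int.cast_zero, zero_mul, zero_add, Finset.sum_eq_single j
        (fun i hi hne => by
          rw [hzero i (by simp only [Finset.mem_Icc] at hi ⊢; omega) hne, Int.cast_zero, zero_mul])
        (fun h => absurd hj h)]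
      have hA2 : (A χ j : ℂ) * (A χ j : ℂ) = 1 := by rcases hsgn with h | h <;> simp [h]
      have hne0 : ζ ^ (j * l) ≠ 0 := pow_ne_zero _ (hζ.ne_zero (by omega))
      have hsq : (ζ ^ (2 * q - 2 * j)) ^ l = ((ζ ^ (j * l))⁻¹) ^ 2 := by
        rw [inv_pow]
        refine eq_inv_of_mul_eq_one_left ?_
        rw [← pow_mul, ← pow_mul, ← pow_add,
          show (2 * q - 2 * j) * l + j * l * 2 = (2 * q - 2 * j + 2 * j) * l by ring,
          Nat.sub_add_cancel (by omega), pow_mul, hζ.pow_eq_one, one_pow]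
      rw [hsq, show (ζ ^ (2 * j)) ^ l = (ζ ^ (j * l)) ^ 2 by rw [← pow_mul, ← pow_mul]; ring_nf,
        mul_mul_mul_comm, hA2, one_mul]
      field_simp
      ring
    have hsum : ∑ l ∈ Finset.Ioo 0 (2 * q), c χ l * c χ l = ((4 * q - 4 : ℕ) : ℂ) := by
      rw [Finset.sum_congr rfl hval]
      have hr : Finset.range (2 * q) = insert 0 (Finset.Ioo 0 (2 * q)) := by
        ext l; simp only [Finset.mem_range, Finset.mem_insert, Finset.mem_Ioo]; omega
      have hne : ∀ k, 0 < k → k < 2 * q → ζ ^ k ≠ 1 := fun k h1 h2 h =>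
        Nat.not_le.2 h2 (Nat.le_of_dvd h1 ((hζ.pow_eq_one_iff_dvd k).1 h))
      have hroot : ∀ k : ℕ, (ζ ^ k) ^ (2 * q) = 1 := fun k => by
        rw [← pow_mul, mul_comm, pow_mul, hζ.pow_eq_one, one_pow]
      have h : ∑ l ∈ Finset.range (2 * q),
          (2 + (ζ ^ (2 * j)) ^ l + (ζ ^ (2 * q - 2 * j)) ^ l) = ((2 * q : ℕ) : ℂ) * 2 := by
        simp only [Finset.sum_add_distrib, Finset.sum_const, Finset.card_range, nsmul_eq_mul]
        rw [geom_root (hroot _), geom_root (hroot _), if_neg (hne _ (by omega) (by omega)),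
          if_neg (hne _ (by omega) (by omega))]
        ring
      rw [hr, Finset.sum_insert (by simp)] at h
      rw [Nat.cast_sub (by omega)]
      push_cast at h ⊢
      linear_combination h
    have hle := reg_add_le hM C hη h0 χ
    rw [hsum] at hle
    obtain ⟨v, hv, hdvd⟩ := BrauerFeit.exists_int_defect_mul_regCoef hM (BrauerFeit.regGen 2) hχ χ
    set h := blockHeight 2 B (χ : G → ℂ) with hh
    have hbd : (2 : ℕ) ^ blockDefect 2 B = 4 * q := by
      rw [← C.maj, ← NilBlock.card_eq hM C.max, C.dih.card]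
    have hre : (BrauerFeit.regCoef 2 χ χ).re * (4 * q : ℝ) = (v : ℝ) := by
      have := congrArg Complex.re hv
      rw [Nat.cast_ofNat, show (2 : ℂ) ^ blockDefect 2 B = (((4 * q : ℕ) : ℝ) : ℂ) by
        rw [Complex.ofReal_natCast, ← hbd]; push_cast; rfl, Complex.re_ofReal_mul,
        Complex.intCast_re] at this
      rw [← this]
      push_cast
      ring
    have hv4 : v ≤ 4 := by
      have hqR : (0 : ℝ) < 4 * q := by
        have : (0 : ℝ) < q := Nat.cast_pos.2 hqp
        linarith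
      rw [show (4 * (q : ℂ))⁻¹ * ((4 * q - 4 : ℕ) : ℂ) =
          (((4 * q : ℝ)⁻¹ * ((4 * q - 4 : ℕ) : ℝ) : ℝ) : ℂ) by push_cast; ring,
        Complex.ofReal_re] at hle
      have h' : (v : ℝ) ≤ 4 := by
        have h1 := mul_le_mul_of_nonneg_right hle hqR.le
        rw [add_mul, hre, mul_comm (4 * (q : ℝ))⁻¹, mul_assoc, inv_mul_cancel₀ hqR.ne', mul_one,
          Nat.cast_sub (by omega)] at h1
        push_cast at h1
        linarith
      exact_mod_cast h'
    have hv0 : 0 < v := by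
      have hpos' : 0 < (BrauerFeit.regCoef 2 χ χ).re := by
        rw [← BrauerFeit.classInner_pRegularPart_pRegularPart 2 χ χ, classInner,
          show (Nat.card G : ℂ)⁻¹ = (((Nat.card G : ℝ)⁻¹ : ℝ) : ℂ) by push_cast; ring,
          Complex.re_ofReal_mul, Complex.re_sum]
        refine mul_pos (inv_pos.2 (Nat.cast_pos.2 Nat.card_pos)) (Finset.sum_pos' (fun g _ => ?_)
          ⟨1, Finset.mem_univ _, ?_⟩) <;> rw [Complex.mul_conj, Complex.ofReal_re]
        · exact Complex.normSq_nonneg _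
        · rw [BrauerFeit.pRegularPart_apply, orderOf_one, if_neg (by norm_num)]
          exact Complex.normSq_pos.2 (Chars.irr_apply_one_ne_zero χ)
      have : (0 : ℝ) < (v : ℝ) := by
        rw [← hre]
        have : (0 : ℝ) < q := Nat.cast_pos.2 hqp
        positivity
      exact_mod_cast this
    obtain ⟨v', rfl⟩ := hdvd
    have hπ : MemLocalIdeal M (Blocks.HeightZero.regPairing 2 (χ : G → ℂ) (χ : G → ℂ)) := by
      by_contra hπ
      refine hpos ?_
      rw [hh, Blocks.HeightZero.eq_blockOf_of_mem hB hχ]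
      exact Blocks.HeightZero.blockHeight_eq_zero_of_regPairing hM (BrauerFeit.regOrth hM)
        (fun χ g => Blocks.mem_localRing.1 (Blocks.centralChar_mem_localRing χ g)) hπ
    have hhd : h ≤ blockDefect 2 B := BrauerFeit.height_le_defect hχ
    have hfac := BrauerFeit.factorization_add_defect (p := 2) hχ
    have hk' : ((2 ^ (blockDefect 2 B - h) * charDegree (χ : G → ℂ) : ℕ) : ℂ) / (Nat.card G : ℕ) ∈
        Blocks.localRing M := by
      refine Blocks.natCast_div_mem_localRing hM Nat.card_pos.ne' (Or.inl ?_)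
      rw [Nat.factorization_mul (by positivity) (hdeg χ).2, Finsupp.add_apply,
        Nat.prime_two.factorization_pow, Finsupp.single_eq_same]
      omega
    have hM' := Blocks.memLocalIdeal_mul_left (Blocks.mem_localRing.1 hk') hπ
    have hv' : MemLocalIdeal M (v' : ℂ) := by
      convert hM' using 1
      refine mul_left_cancel₀ (pow_ne_zero h (two_ne_zero : (2 : ℂ) ≠ 0)) ?_
      push_cast at hv
      rw [← hv, BrauerFeit.regCoef_eq_regPairing,
        show (2 : ℂ) ^ blockDefect 2 B = 2 ^ h * 2 ^ (blockDefect 2 B - h) by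
          rw [← pow_add, Nat.add_sub_cancel' hhd]]
      push_cast
      ring
    obtain ⟨k, rfl⟩ := (Blocks.memLocalIdeal_intCast_iff hM v').1 hv'
    have h4 : (4 : ℤ) ≤ (2 : ℤ) ^ h :=
      le_trans (by norm_num) (pow_le_pow_right₀ (by norm_num) (show 2 ≤ h by omega))
    push_cast at hv0 hv4
    have hk0 : 0 < k := by
      by_contra hk0
      push Not at hk0
      nlinarith
    nlinarith

end Cfsg.Agent.Lib.DihedralDefect
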