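import Cfsg.Agent.Lib.DihedralDefect.Core
import Mathlib

/-!
# Integer coordinates of symmetric functions on the non-trivial rotations
-/

set_option autoImplicit false
set_option linter.unusedSectionVars false

namespace Cfsg.Agent.Lib.DihedralDefect

open scoped ComplexConjugate

universe u

theorem fold_sum (q : ℕ) (hq : 0 < q) (g : ℕ → ℂ) :
    ∑ j ∈ Finset.range (2 * q), g j =
      g 0 + g q + ∑ i ∈ Finset.Icc 1 (q - 1), (g i + g (2 * q - i)) := by
  obtain ⟨p, rfl⟩ : ∃ p, q = p + 1 := ⟨q - 1, by omega⟩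
  have hI : ∀ f : ℕ → ℂ, ∑ i ∈ Finset.Icc 1 (p + 1 - 1), f i = ∑ i ∈ Finset.range p, f (i + 1) := by
    intro f
    rw [show p + 1 - 1 = p by omega, ← Finset.Ico_add_one_right_eq_Icc, Finset.sum_Ico_eq_sum_range,
      show p + 1 - 1 = p by omega]
    exact Finset.sum_congr rfl fun i _ => by rw [add_comm]
  rw [hI, two_mul, Finset.sum_range_add, Finset.sum_range_succ',
    Finset.sum_range_succ' (fun i => g (p + 1 + i)), Finset.sum_add_distrib,
    ← Finset.sum_range_reflect (fun i => g (p + 1 + (i + 1))) p]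
  rw [Finset.sum_congr rfl (fun i (hi : i ∈ Finset.range p) =>
    show g (p + 1 + (p - 1 - i + 1)) = g (p + 1 + (p + 1) - (i + 1)) from
      congrArg g (by have := Finset.mem_range.1 hi; omega))]
  rw [add_zero]
  ring

variable {I : Type u} (T : Finset I) (c : I → ℕ → ℂ) (q : ℕ)

/-- The integer table of a family of symmetric functions orthogonal on the rotations. -/
theorem exists_coords (hq : 2 ≤ q) {ζ : ℂ} (hζ : IsPrimitiveRoot ζ (2 * q))
    (hc : ∀ χ, ∀ l ≤ 2 * q, c χ (2 * q - l) = c χ l)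
    (hint : ∀ χ, ∀ ξ : ℂ, ξ ^ (2 * q) = 1 →
      ∃ n : ℤ, ∑ l ∈ Finset.range (2 * q), c χ l * (ξ ^ l - 1) = (2 * q : ℂ) * n)
    (horth : ∀ l ∈ Finset.Ioo 0 (2 * q), ∀ l' ∈ Finset.Ioo 0 (2 * q),
      ∑ χ ∈ T, c χ l * c χ l' =
        (2 * q : ℂ) * ((if l' = l then 1 else 0) + (if l' = 2 * q - l then 1 else 0))) :
    ∃ A : I → ℕ → ℤ,
      (∀ χ, ∀ l ∈ Finset.Ioo 0 (2 * q), c χ l = (A χ q : ℂ) * (-1) ^ l +
        ∑ i ∈ Finset.Icc 1 (q - 1), (A χ i : ℂ) * (ζ ^ (i * l) + (ζ ^ (i * l))⁻¹)) ∧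
      (∀ χ j, ∑ l ∈ Finset.range (2 * q), c χ l * ((ζ ^ j) ^ l - 1) = (2 * q : ℂ) * A χ j) ∧
      ∀ j ∈ Finset.Icc 1 q, ∀ k ∈ Finset.Icc 1 q,
        ∑ χ ∈ T, A χ j * A χ k = 2 + if j = k then (if j = q then 2 else 1) else 0 := by
  classical
  have h2q : 0 < 2 * q := by omega
  have hC : (2 * q : ℂ) ≠ 0 := by exact_mod_cast h2q.ne'
  have hne : ζ ≠ 0 := hζ.ne_zero h2q.ne'
  have hroot : ∀ j : ℕ, (ζ ^ j) ^ (2 * q) = 1 := fun j => by
    rw [← pow_mul, mul_comm, pow_mul, hζ.pow_eq_one, one_pow]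
  have hgeom : ∀ j : ℕ, ∑ l ∈ Finset.range (2 * q), (ζ ^ j) ^ l =
      if 2 * q ∣ j then (2 * q : ℂ) else 0 := fun j => by
    rw [geom_root (hroot j)]
    simp only [hζ.pow_eq_one_iff_dvd, Nat.cast_mul, Nat.cast_ofNat]
  choose A hA using fun χ j => hint χ (ζ ^ j) (hroot j)
  refine ⟨A, ?_, hA, ?_⟩
  · intro χ
    have hsym : ∀ j, j ≤ 2 * q → A χ (2 * q - j) = A χ j := by
      intro j hj
      have h' : ((A χ (2 * q - j) : ℤ) : ℂ) = (A χ j : ℂ) := by
        refine mul_left_cancel₀ hC ?_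
        rw [← hA, ← hA]
        refine Finset.sum_nbij' (fun l => (2 * q - l) % (2 * q)) (fun l => (2 * q - l) % (2 * q))
          ?_ ?_ ?_ ?_ ?_
        · intro l _; exact Finset.mem_coe.2 (Finset.mem_range.2 (Nat.mod_lt _ h2q))
        · intro l _; exact Finset.mem_coe.2 (Finset.mem_range.2 (Nat.mod_lt _ h2q))
        all_goals
          intro l hl
          rcases Nat.eq_zero_or_pos l with rfl | hl0
          · simp
        · have hl := Finset.mem_range.1 (Finset.mem_coe.1 hl)
          show (2 * q - (2 * q - l) % (2 * q)) % (2 * q) = l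
          rw [Nat.mod_eq_of_lt (by omega : 2 * q - l < 2 * q),
            Nat.mod_eq_of_lt (by omega : 2 * q - (2 * q - l) < 2 * q)]
          omega
        · have hl := Finset.mem_range.1 (Finset.mem_coe.1 hl)
          show (2 * q - (2 * q - l) % (2 * q)) % (2 * q) = l
          rw [Nat.mod_eq_of_lt (by omega : 2 * q - l < 2 * q),
            Nat.mod_eq_of_lt (by omega : 2 * q - (2 * q - l) < 2 * q)]
          omega
        · have hl := Finset.mem_range.1 hl
          rw [Nat.mod_eq_of_lt (by omega : 2 * q - l < 2 * q), hc χ l hl.le]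
          congr 2
          have h1 : (ζ ^ (2 * q - j)) ^ l * (ζ ^ j) ^ l = 1 := by
            rw [← mul_pow, ← pow_add, Nat.sub_add_cancel hj, hζ.pow_eq_one, one_pow]
          have h2 : (ζ ^ j) ^ (2 * q - l) * (ζ ^ j) ^ l = 1 := by
            rw [← pow_add, Nat.sub_add_cancel hl.le, hroot]
          exact mul_right_cancel₀ (pow_ne_zero _ (pow_ne_zero _ hne)) (h1.trans h2.symm)
      exact_mod_cast h'
    intro l hl
    rw [Finset.mem_Ioo] at hl
    have h : (2 * q : ℂ) * ∑ j ∈ Finset.range (2 * q), (A χ j : ℂ) * (ζ ^ (2 * q - l)) ^ j =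
        (2 * q : ℂ) * c χ l := by
      simp only [Finset.mul_sum, ← mul_assoc, ← hA, Finset.sum_mul]
      rw [Finset.sum_comm, Finset.sum_eq_single l]
      · simp only [mul_assoc, ← Finset.mul_sum, sub_mul, one_mul, Finset.sum_sub_distrib]
        rw [hgeom, if_neg (fun hd => by have := Nat.le_of_dvd (by omega) hd; omega), sub_zero,
          Finset.sum_congr rfl (fun j _ => show (ζ ^ j) ^ l * (ζ ^ (2 * q - l)) ^ j = 1 by
            rw [← pow_mul, mul_comm j, pow_mul, ← mul_pow, ← pow_add, Nat.add_sub_cancel' hl.2.le,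
              hζ.pow_eq_one, one_pow]),
          Finset.sum_const, Finset.card_range, nsmul_one]
        push_cast
        ring
      · intro k hk hkl
        rw [Finset.mem_range] at hk
        simp only [mul_assoc, ← Finset.mul_sum, sub_mul, one_mul, Finset.sum_sub_distrib]
        rw [hgeom, if_neg (fun hd => by have := Nat.le_of_dvd (by omega) hd; omega), sub_zero,
          Finset.sum_congr rfl (fun j _ => show (ζ ^ j) ^ k * (ζ ^ (2 * q - l)) ^ j =
              (ζ ^ (k + (2 * q - l))) ^ j by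
            rw [← pow_mul, mul_comm j, pow_mul, ← mul_pow, ← pow_add]),
          hgeom, if_neg, mul_zero]
        rintro ⟨d, hd⟩
        rcases d with _ | _ | d
        · omega
        · omega
        · rw [Nat.mul_succ, Nat.mul_succ] at hd
          omega
      · exact fun h => absurd (Finset.mem_range.2 hl.2) h
    rw [← mul_left_cancel₀ hC h, fold_sum q (by omega)]
    have hA0 : A χ 0 = 0 := by
      have h0 := hA χ 0
      simp only [pow_zero, one_pow, sub_self, mul_zero, Finset.sum_const_zero] at h0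
      exact_mod_cast (mul_eq_zero.1 h0.symm).resolve_left hC
    rw [hA0, Int.cast_zero, zero_mul, zero_add]
    have hinvpow : ∀ i : ℕ, (ζ ^ (2 * q - l)) ^ i = (ζ ^ (i * l))⁻¹ := fun i => by
      refine eq_inv_of_mul_eq_one_left ?_
      rw [mul_comm i l, pow_mul, ← mul_pow, ← pow_add, Nat.sub_add_cancel hl.2.le, hζ.pow_eq_one,
        one_pow]
    have hzq : ζ ^ q = -1 := by
      have h1 : ζ ^ q * ζ ^ q = 1 := by rw [← pow_add, ← two_mul, hζ.pow_eq_one]
      rcases mul_self_eq_one_iff.1 h1 with h | h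
      · exact absurd ((hζ.pow_eq_one_iff_dvd q).1 h) fun hd => by
          have := Nat.le_of_dvd (by omega) hd; omega
      · exact h
    rw [hinvpow q, pow_mul, hzq, ← inv_pow, show (-1 : ℂ)⁻¹ = -1 by norm_num]
    congr 1
    refine Finset.sum_congr rfl fun i hi => ?_
    have hi' := Finset.mem_Icc.1 hi
    rw [hsym i (by omega), hinvpow i, hinvpow (2 * q - i)]
    have : (ζ ^ ((2 * q - i) * l))⁻¹ = ζ ^ (i * l) := by
      refine inv_eq_of_mul_eq_one_left ?_
      rw [← pow_add, ← add_mul, Nat.add_sub_cancel' (by omega), pow_mul, hζ.pow_eq_one, one_pow]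
    rw [this]
    ring
  · intro j hj k hk
    rw [Finset.mem_Icc] at hj hk
    have h : ((2 * q : ℂ) * (2 * q : ℂ)) * ((∑ χ ∈ T, A χ j * A χ k : ℤ) : ℂ) =
        ((2 * q : ℂ) * (2 * q : ℂ)) *
          ((2 + if j = k then (if j = q then 2 else 1) else 0 : ℤ) : ℂ) := by
      push_cast
      rw [Finset.mul_sum, Finset.sum_congr rfl (fun χ _ => show
        (2 * q : ℂ) * (2 * q : ℂ) * ((A χ j : ℂ) * (A χ k : ℂ)) =
          ((2 * q : ℂ) * (A χ j : ℂ)) * ((2 * q : ℂ) * (A χ k : ℂ)) by ring)]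
      simp only [← hA, Finset.sum_mul, Finset.mul_sum]
      rw [Finset.sum_comm]
      conv_lhs => enter [2, l]; rw [Finset.sum_comm]
      have hinner : ∀ l ∈ Finset.range (2 * q), ∑ l' ∈ Finset.range (2 * q), ∑ χ ∈ T,
          c χ l * ((ζ ^ j) ^ l - 1) * (c χ l' * ((ζ ^ k) ^ l' - 1)) =
          (2 * q : ℂ) * (((ζ ^ j) ^ l - 1) *
            (((ζ ^ k) ^ l - 1) + ((ζ ^ (2 * q - k)) ^ l - 1))) := by
        intro l hl
        rcases Nat.eq_zero_or_pos l with rfl | hl0
        · simp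
        have hlI : l ∈ Finset.Ioo 0 (2 * q) := Finset.mem_Ioo.2 ⟨hl0, Finset.mem_range.1 hl⟩
        have hl' := Finset.mem_range.1 hl
        rw [Finset.sum_congr rfl (g := fun l' => ((ζ ^ j) ^ l - 1) * ((ζ ^ k) ^ l' - 1) *
          ((2 * q : ℂ) * ((if l' = l then 1 else 0) + (if l' = 2 * q - l then 1 else 0)))) ?_]
        · simp only [mul_add, Finset.sum_add_distrib, mul_ite, mul_one, mul_zero,
            Finset.sum_ite_eq', Finset.mem_range, if_pos hl', if_pos (by omega : 2 * q - l < 2 * q)]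
          rw [show (ζ ^ k) ^ (2 * q - l) = (ζ ^ (2 * q - k)) ^ l by
            refine mul_right_cancel₀ (pow_ne_zero l (pow_ne_zero k hne)) ?_
            rw [← pow_add, Nat.sub_add_cancel hl'.le, hroot, ← mul_pow, ← pow_add,
              Nat.sub_add_cancel (by omega), hζ.pow_eq_one, one_pow]]
          ring
        · intro l' hl''
          rcases Nat.eq_zero_or_pos l' with rfl | hl0'
          · simp
          rw [← horth l hlI l' (Finset.mem_Ioo.2 ⟨hl0', Finset.mem_range.1 hl''⟩), Finset.mul_sum]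
          exact Finset.sum_congr rfl fun χ _ => by ring
      rw [Finset.sum_comm, Finset.sum_congr rfl hinner, ← Finset.mul_sum, Finset.sum_congr rfl (g := fun l =>
        (ζ ^ (j + k)) ^ l + (ζ ^ (j + (2 * q - k))) ^ l - 2 * (ζ ^ j) ^ l - (ζ ^ k) ^ l -
          (ζ ^ (2 * q - k)) ^ l + 2) (fun l _ => by
        simp only [pow_add, mul_pow]; ring)]
      simp only [Finset.sum_add_distrib, Finset.sum_sub_distrib, ← Finset.mul_sum, Finset.sum_const,
        Finset.card_range, hgeom, nsmul_eq_mul, Nat.cast_mul, Nat.cast_ofNat]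
      have n1 : ¬ 2 * q ∣ j := fun hd => by have := Nat.le_of_dvd (by omega) hd; omega
      have n2 : ¬ 2 * q ∣ k := fun hd => by have := Nat.le_of_dvd (by omega) hd; omega
      have n3 : ¬ 2 * q ∣ 2 * q - k := fun hd => by have := Nat.le_of_dvd (by omega) hd; omega
      rw [if_neg n1, if_neg n2, if_neg n3]
      by_cases hjk : j = k
      · subst hjk
        have p1 : 2 * q ∣ j + (2 * q - j) := ⟨1, by omega⟩
        rw [if_pos rfl, if_pos p1]
        by_cases hjq : j = q
        · rw [if_pos hjq, if_pos ⟨1, by omega⟩]; ring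
        · rw [if_neg hjq, if_neg (fun hd => by have := Nat.le_of_dvd (by omega) hd; omega)]; ring
      · have p1 : ¬ 2 * q ∣ j + (2 * q - k) := by
          rintro ⟨d, hd⟩
          rcases d with _ | _ | d
          · omega
          · omega
          · rw [Nat.mul_succ, Nat.mul_succ] at hd; omega
        have p2 : ¬ 2 * q ∣ j + k := fun hd => by have := Nat.le_of_dvd (by omega) hd; omega
        rw [if_neg hjk, if_neg p1, if_neg p2]; ring
    exact_mod_cast mul_left_cancel₀ (mul_ne_zero hC hC) h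

/-- A combination of the functions killed at every rotation kills the coordinates. -/
theorem sum_coords_eq_zero (hq : 0 < q) {ζ : ℂ} {A : I → ℕ → ℤ}
    (hA : ∀ χ j, ∑ l ∈ Finset.range (2 * q), c χ l * ((ζ ^ j) ^ l - 1) = (2 * q : ℂ) * A χ j)
    {d : I → ℂ} (hd : ∀ l ∈ Finset.Ioo 0 (2 * q), ∑ χ ∈ T, c χ l * d χ = 0) (j : ℕ) :
    ∑ χ ∈ T, (A χ j : ℂ) * d χ = 0 := by
  have hC : (2 * q : ℂ) ≠ 0 := by exact_mod_cast (by omega : 2 * q ≠ 0)
  refine mul_left_cancel₀ hC ?_
  simp only [Finset.mul_sum, ← mul_assoc, ← hA, mul_zero, Finset.sum_mul]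
  rw [Finset.sum_comm]
  refine Finset.sum_eq_zero fun l hl => ?_
  rcases Nat.eq_zero_or_pos l with rfl | hl0
  · simp
  rw [Finset.sum_congr rfl (g := fun χ => ((ζ ^ j) ^ l - 1) * (c χ l * d χ)) (fun χ _ => by ring),
    ← Finset.mul_sum, hd l (Finset.mem_Ioo.2 ⟨hl0, Finset.mem_range.1 hl⟩), mul_zero]

end Cfsg.Agent.Lib.DihedralDefect
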